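import Groth.Agent.WDivA16.Scheme
import Mathlib.AlgebraicGeometry.AffineSpace

/-!
# Affine space has polynomial charts
-/

universe u

open CategoryTheory AlgebraicGeometry TopologicalSpace MvPolynomial

set_option backward.isDefEq.respectTransparency false
set_option backward.isDefEq.respectTransparency.types false
set_option linter.style.haveILetI false

namespace Groth.Agent.WDivA16

theorem bijective_eval₂Hom_top (n : Type u) (V : Scheme.{u}) [IsAffine V] :
    Function.Bijective (MvPolynomial.eval₂Hom ((𝔸(n; V) ↘ V).appTop).hom (AffineSpace.coord V)) := by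
  have h : IsIso (AffineSpace.isoOfIsAffine n V).hom.appTop := inferInstance
  rw [AffineSpace.isoOfIsAffine_hom_appTop] at h
  have h2 := (ConcreteCategory.isIso_iff_bijective _).1 h
  exact (Function.Bijective.of_comp_iff
    (MvPolynomial.eval₂Hom ((𝔸(n; V) ↘ V).appTop).hom (AffineSpace.coord V))
    (ConcreteCategory.bijective_of_isIso
      (Scheme.ΓSpecIso (CommRingCat.of (MvPolynomial n Γ(V, ⊤)))).hom)).1 h2

theorem hasPolyCharts_affineSpace (n : Type u) (V : Scheme.{u}) :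
    HasPolyCharts (𝔸(n; V) ↘ V) n := by
  refine ⟨fun U hU => hU.preimage _, fun U hU => ?_⟩
  let pr := 𝔸(n; V) ↘ V
  haveI : IsAffine (↑U : Scheme.{u}) := hU
  let m := AffineSpace.map n U.ι
  have sq := AffineSpace.isPullback_map (n := n) U.ι
  haveI : IsOpenImmersion m := MorphismProperty.of_isPullback (P := @IsOpenImmersion) sq.flip inferInstance
  have hr : pr ⁻¹ᵁ U ≤ m.opensRange := fun x hx => by
    show x ∈ Set.range (AffineSpace.map n U.ι)
    rw [← sq.isoPullback_hom_fst, Scheme.Hom.comp_base, TopCat.coe_comp,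
      Set.range_comp, (Scheme.Hom.surjective sq.isoPullback.hom).range_eq, Set.image_univ, Scheme.Pullback.range_fst,
      Scheme.Opens.range_ι]
    exact hx
  haveI := Scheme.Hom.isIso_app m (pr ⁻¹ᵁ U) hr
  have htop : (⊤ : (𝔸(n; (↑U : Scheme.{u}))).Opens) = m ⁻¹ᵁ (pr ⁻¹ᵁ U) := eq_comm.1 <| top_unique fun x _ => by
    show (m ≫ pr) x ∈ U
    rw [sq.w]
    exact ((𝔸(n; (↑U : Scheme.{u})) ↘ (↑U : Scheme.{u})) x).2
  let j := m.appLE (pr ⁻¹ᵁ U) ⊤ htop.le
  have hj : Function.Bijective j := by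
    have e : j = m.app (pr ⁻¹ᵁ U) ≫ (𝔸(n; (↑U : Scheme.{u}))).presheaf.map (eqToHom htop).op := rfl
    rw [e]
    exact ConcreteCategory.bijective_of_isIso _
  let x : n → Γ(𝔸(n; V), pr ⁻¹ᵁ U) := fun i =>
    (𝔸(n; V)).presheaf.map (homOfLE (le_top : pr ⁻¹ᵁ U ≤ ⊤)).op (AffineSpace.coord V i)
  let ψ := MvPolynomial.eval₂Hom (pr.app U).hom x
  suffices Function.Bijective ψ from ⟨RingEquiv.ofBijective ψ this, fun a => MvPolynomial.eval₂Hom_C _ _ a⟩
  refine (Function.Bijective.of_comp_iff' hj _).1 ?_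
  let e := U.topIso
  have he : Function.Bijective (MvPolynomial.map (σ := n) e.inv.hom) :=
    ⟨MvPolynomial.map_injective _ (ConcreteCategory.bijective_of_isIso e.inv).1,
      MvPolynomial.map_surjective _ (ConcreteCategory.bijective_of_isIso e.inv).2⟩
  have key : j.hom.comp ψ =
      (MvPolynomial.eval₂Hom ((𝔸(n; (↑U : Scheme.{u})) ↘ (↑U : Scheme.{u})).appTop).hom
        (AffineSpace.coord (↑U : Scheme.{u}))).comp (MvPolynomial.map (σ := n) e.inv.hom) := by
    refine MvPolynomial.ringHom_ext (fun r => ?_) fun k => ?_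
    · rw [RingHom.comp_apply, RingHom.comp_apply, MvPolynomial.map_C, MvPolynomial.eval₂Hom_C,
        MvPolynomial.eval₂Hom_C]
      have hw : ∀ (f : 𝔸(n; (↑U : Scheme.{u})) ⟶ V), f = (𝔸(n; (↑U : Scheme.{u})) ↘ (↑U : Scheme.{u})) ≫ U.ι → ∀ hle,
          f.appLE U ⊤ hle = e.inv ≫ (𝔸(n; (↑U : Scheme.{u})) ↘ (↑U : Scheme.{u})).appTop := by
        rintro _ rfl hle
        rw [← Scheme.Hom.appLE_comp_appLE _ _ U ⊤ ⊤ (by simp) le_rfl]
        refine congrArg₂ (· ≫ ·) ?_ ?_
        · simp [e, Scheme.Hom.appLE, ← Functor.map_comp]; rfl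
        · simp [Scheme.Hom.appTop, Scheme.Hom.appLE]
      show (pr.app U ≫ m.appLE _ ⊤ _) r =
        (e.inv ≫ (𝔸(n; (↑U : Scheme.{u})) ↘ (↑U : Scheme.{u})).appTop) r
      rw [Scheme.Hom.app_eq_appLE, Scheme.Hom.appLE_comp_appLE]
      exact congrArg (fun f => f.hom r) (hw _ sq.w _)
    · rw [RingHom.comp_apply, RingHom.comp_apply, MvPolynomial.map_X, MvPolynomial.eval₂Hom_X',
        MvPolynomial.eval₂Hom_X']
      show ((𝔸(n; V)).presheaf.map _ ≫ m.appLE (pr ⁻¹ᵁ U) ⊤ htop.le) (AffineSpace.coord V k) = _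
      rw [Scheme.Hom.map_appLE, Scheme.Hom.appLE, CommRingCat.comp_apply]
      change (𝔸(n; (↑U : Scheme.{u}))).presheaf.map _ (m.appTop (AffineSpace.coord V k)) = _
      rw [AffineSpace.map_appTop_coord]
      exact congr($((𝔸(n; (↑U : Scheme.{u}))).presheaf.map_id _) (AffineSpace.coord (↑U : Scheme.{u}) k))
  have h := (bijective_eval₂Hom_top n (↑U : Scheme.{u})).comp he
  rw [← RingHom.coe_comp, ← key, RingHom.coe_comp] at h
  exact h

end Groth.Agent.WDivA16
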