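import Groth.Agent.WDivA16.Chart
import Groth.Agent.WDivX.OrdOpen
import Groth.Agent.ProjTwistIso16.Localization
import Groth.Prelude.Def_CohB1
import Mathlib.AlgebraicGeometry.ProjectiveSpectrum.Topology

/-!
# Weil divisors on projective space over an affine scheme
-/

universe u

open CategoryTheory AlgebraicGeometry TopologicalSpace Order IsLocalRing
open HomogeneousLocalization (Away)

set_option backward.isDefEq.respectTransparency false
set_option backward.isDefEq.respectTransparency.types false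
set_option linter.style.haveILetI false
set_option maxHeartbeats 600000

noncomputable section

namespace Groth.Agent.WDivA16

namespace Pn

variable (n : ℕ) (A : Type u) [CommRing A]

local notation "𝒜" => CohB1.polyGrading n A
local notation "T" => (MvPolynomial.X : Fin (n + 1) → MvPolynomial (Fin (n + 1)) A)

/-- The chart coordinates. -/
abbrev Idx : Type u := ULift.{u} (Fin n)

theorem X_mem_one (j : Fin (n + 1)) : T j ∈ 𝒜 1 := MvPolynomial.isHomogeneous_X A j

/-- The coordinate `T_j / T_0`. -/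
def coord (j : Fin (n + 1)) : Away 𝒜 (T 0) :=
  Away.mk 𝒜 (X_mem_one n A 0) 1 (T j) (by rw [one_smul]; exact X_mem_one n A j)

/-- The structure map of the chart. -/
def base : A →+* Away 𝒜 (T 0) :=
  (HomogeneousLocalization.fromZeroRingHom 𝒜 _).comp (algebraMap A (𝒜 0))

/-- Dehomogenisation. -/
def dehom : MvPolynomial (Fin (n + 1)) A →+* Away 𝒜 (T 0) :=
  MvPolynomial.eval₂Hom (base n A) (coord n A)

theorem val_base (c : A) :
    (base n A c).val = algebraMap (MvPolynomial (Fin (n + 1)) A) _ (MvPolynomial.C c) := by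
  show (HomogeneousLocalization.mk _).val = _
  rw [HomogeneousLocalization.val_mk, ← Localization.mk_one_eq_algebraMap]
  rfl

theorem val_coord (j : Fin (n + 1)) :
    (coord n A j).val * algebraMap (MvPolynomial (Fin (n + 1)) A) _ (T 0) =
      algebraMap (MvPolynomial (Fin (n + 1)) A) (Localization (Submonoid.powers (T 0))) (T j) := by
  rw [coord, HomogeneousLocalization.Away.val_mk, ← Localization.mk_one_eq_algebraMap,
    ← Localization.mk_one_eq_algebraMap, Localization.mk_mul, Localization.mk_eq_mk_iff,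
    Localization.r_iff_exists]
  exact ⟨1, by simp [mul_comm]⟩

theorem val_dehom_mul {m : ℕ} {x : MvPolynomial (Fin (n + 1)) A} (hx : x.IsHomogeneous m) :
    (dehom n A x).val * algebraMap _ _ (T 0) ^ m =
      algebraMap (MvPolynomial (Fin (n + 1)) A) (Localization (Submonoid.powers (T 0))) x := by
  classical
  let val : Away 𝒜 (T 0) →+* Localization (Submonoid.powers (T 0)) := algebraMap _ _
  show val (dehom n A x) * _ = _
  have hsum := x.as_sum
  rw [hsum, map_sum, map_sum, map_sum, Finset.sum_mul]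
  refine Finset.sum_congr rfl fun d hd => ?_
  have hdeg : ∑ j ∈ d.support, d j = m := by
    have := hx (MvPolynomial.mem_support_iff.1 hd)
    rwa [Finsupp.weight_apply, Finsupp.sum, Finset.sum_congr rfl fun j _ => (by simp : d j • (1 : Fin (n+1) → ℕ) j = d j)] at this
  rw [MvPolynomial.monomial_eq, Finsupp.prod, map_mul, map_mul, map_mul, map_prod, map_prod,
    map_prod, ← hdeg, ← Finset.prod_pow_eq_pow_sum, mul_assoc, ← Finset.prod_mul_distrib]
  congr 1
  · show val (dehom n A (MvPolynomial.C _)) = _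
    rw [dehom, MvPolynomial.eval₂Hom_C]
    exact val_base n A _
  · refine Finset.prod_congr rfl fun j _ => ?_
    rw [map_pow, map_pow, map_pow, ← mul_pow]
    congr 1
    rw [dehom, MvPolynomial.eval₂Hom_X']
    exact val_coord n A j

theorem isUnit_T0 :
    IsUnit (algebraMap (MvPolynomial (Fin (n + 1)) A) (Localization (Submonoid.powers (T 0))) (T 0)) :=
  IsLocalization.map_units _ (⟨T 0, 1, pow_one _⟩ : Submonoid.powers (T 0))

theorem surjective_dehom : Function.Surjective (dehom n A) := by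
  intro z
  obtain ⟨m, x, hx, rfl⟩ := HomogeneousLocalization.Away.mk_surjective 𝒜 (X_mem_one n A 0) z
  refine ⟨x, HomogeneousLocalization.val_injective _ ?_⟩
  refine ((isUnit_T0 n A).pow m).mul_left_injective ?_
  show _ * _ = _ * _
  rw [val_dehom_mul n A (by simpa using hx), HomogeneousLocalization.Away.val_mk,
    ← map_pow, ← Localization.mk_one_eq_algebraMap, ← Localization.mk_one_eq_algebraMap,
    Localization.mk_mul, Localization.mk_eq_mk_iff, Localization.r_iff_exists]
  exact ⟨1, by simp [mul_comm]⟩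

/-- Setting `T_0 = 1`. -/
def dh : MvPolynomial (Fin (n + 1)) A →+* MvPolynomial (Idx.{u} n) A :=
  (MvPolynomial.aeval (Fin.cons 1 fun j => MvPolynomial.X (ULift.up j) :
    Fin (n + 1) → MvPolynomial (Idx.{u} n) A)).toRingHom

/-- The chart coordinates map. -/
def fromChart : MvPolynomial (Idx.{u} n) A →+* Away 𝒜 (T 0) :=
  MvPolynomial.eval₂Hom (base n A) fun j => coord n A j.down.succ

theorem coord_zero : coord n A 0 = 1 :=
  HomogeneousLocalization.val_injective _ (by
    rw [HomogeneousLocalization.val_one]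
    exact (isUnit_T0 n A).mul_left_injective ((val_coord n A 0).trans (one_mul _).symm))

theorem fromChart_bijective : Function.Bijective (fromChart.{u} n A) := by
  constructor
  · have hu : IsUnit (dh.{u} n A (T 0)) := by simp [dh]
    let L : Localization (Submonoid.powers (T 0)) →+* MvPolynomial (Idx.{u} n) A :=
      IsLocalization.Away.lift (T 0) hu
    let val : Away 𝒜 (T 0) →+* Localization (Submonoid.powers (T 0)) := algebraMap _ _
    have h : (L.comp val).comp (fromChart n A) = RingHom.id _ := by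
      apply MvPolynomial.ringHom_ext
      · intro c
        show L (val (fromChart n A (MvPolynomial.C c))) = _
        rw [fromChart, MvPolynomial.eval₂Hom_C]
        show L ((base n A c).val) = _
        rw [val_base, IsLocalization.Away.lift_eq]
        simp [dh]
      · rintro ⟨j⟩
        show L (val (fromChart n A (MvPolynomial.X (ULift.up j)))) = _
        rw [fromChart, MvPolynomial.eval₂Hom_X']
        have h := congrArg L (val_coord n A j.succ)
        rw [map_mul, IsLocalization.Away.lift_eq, IsLocalization.Away.lift_eq] at h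
        have h1 : dh.{u} n A (T 0) = 1 := by simp [dh]
        rw [h1, mul_one] at h
        show L ((coord n A j.succ).val) = _
        rw [h]
        simp [dh]
    intro a b hab
    have := congrArg (L.comp val) hab
    rwa [← RingHom.comp_apply, ← RingHom.comp_apply, h] at this
  · have h : (fromChart.{u} n A).comp (dh n A) = dehom n A := by
      apply MvPolynomial.ringHom_ext
      · intro c
        simp [fromChart, dh, dehom]
      · intro j
        cases j using Fin.cases with
        | zero => simp [fromChart, dh, dehom, coord_zero]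
        | succ j => simp [fromChart, dh, dehom]
    intro z
    obtain ⟨x, rfl⟩ := surjective_dehom n A z
    exact ⟨dh n A x, congr($h x)⟩

/-- The open chart `T_0 ≠ 0` as affine space. -/
def chart : 𝔸(Idx.{u} n; Spec (CommRingCat.of A)) ⟶ CohB1.ProjSpace n A :=
  (AffineSpace.SpecIso (Idx.{u} n) (CommRingCat.of A)).hom ≫
    Spec.map (RingEquiv.ofBijective (fromChart n A) (fromChart_bijective n A)).toCommRingCatIso.inv ≫
      Proj.awayι 𝒜 (T 0) (X_mem_one n A 0) Nat.one_pos

instance : IsOpenImmersion (chart n A) :=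
  inferInstanceAs (IsOpenImmersion ((AffineSpace.SpecIso (Idx.{u} n) (CommRingCat.of A)).hom ≫
    Spec.map (RingEquiv.ofBijective (fromChart n A) (fromChart_bijective n A)).toCommRingCatIso.inv ≫
      Proj.awayι 𝒜 (T 0) (X_mem_one n A 0) Nat.one_pos))

theorem chart_toSpec :
    chart n A ≫ CohB1.ProjSpace.toSpec n A = 𝔸(Idx.{u} n; Spec (CommRingCat.of A)) ↘ Spec (CommRingCat.of A) := by
  have h : Proj.awayι 𝒜 (T 0) (X_mem_one n A 0) Nat.one_pos ≫ CohB1.ProjSpace.toSpec n A =
      Spec.map (CommRingCat.ofHom (base n A)) := by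
    show Proj.awayι 𝒜 (T 0) (X_mem_one n A 0) Nat.one_pos ≫ Proj.toSpecZero 𝒜 ≫ _ = _
    rw [← Category.assoc, Proj.awayι_toSpecZero, ← Spec.map_comp]
    rfl
  have he : CommRingCat.ofHom (base n A) ≫
      (RingEquiv.ofBijective (fromChart.{u} n A) (fromChart_bijective n A)).toCommRingCatIso.inv =
      CommRingCat.ofHom (MvPolynomial.C : A →+* MvPolynomial (Idx.{u} n) A) := by
    refine CommRingCat.hom_ext (RingHom.ext fun c => ?_)
    show (RingEquiv.ofBijective (fromChart n A) (fromChart_bijective n A)).symm (base n A c) = _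
    rw [RingEquiv.symm_apply_eq]
    show _ = fromChart n A (MvPolynomial.C c)
    rw [fromChart, MvPolynomial.eval₂Hom_C]
  rw [chart, Category.assoc, Category.assoc, h, ← Spec.map_comp, he]
  refine (congrArg ((AffineSpace.SpecIso (Idx.{u} n) (CommRingCat.of A)).hom ≫ ·)
    (AffineSpace.SpecIso_inv_over (CommRingCat.of A)).symm).trans ?_
  exact Iso.hom_inv_id_assoc _ _

theorem opensRange_chart : (chart n A).opensRange = Proj.basicOpen 𝒜 (T 0) := by
  rw [← Proj.opensRange_awayι 𝒜 (T 0) (X_mem_one n A 0) Nat.one_pos]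
  refine Eq.trans ?_ (Scheme.Hom.opensRange_comp_of_isIso ((AffineSpace.SpecIso (Idx.{u} n) (CommRingCat.of A)).hom ≫
    Spec.map (RingEquiv.ofBijective (fromChart.{u} n A) (fromChart_bijective n A)).toCommRingCatIso.inv) _)
  simp only [chart, Category.assoc]

theorem mem_range_chart {y : CohB1.ProjSpace n A} :
    y ∈ Set.range (chart n A) ↔ T 0 ∉ y.asHomogeneousIdeal := by
  rw [← Scheme.Hom.coe_opensRange, SetLike.mem_coe, opensRange_chart]
  rfl

variable [IsDomain A] (H : CohB1.ProjSpace n A)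
  (hH : H.asHomogeneousIdeal.toIdeal = Ideal.span {(MvPolynomial.X 0 : MvPolynomial (Fin (n + 1)) A)})

include hH in
theorem toSpec_hyperplane [IsIntegral (Spec (CommRingCat.of A))] :
    CohB1.ProjSpace.toSpec n A H = genericPoint (Spec (CommRingCat.of A)) := by
  have key : ∀ a : A, a ∈ (CohB1.ProjSpace.toSpec n A H).asIdeal → a = 0 := by
    intro a ha
    by_contra ha0
    let z : 𝒜 0 := algebraMap A (𝒜 0) a
    have h1 : Proj.toSpecZero 𝒜 H ∈ PrimeSpectrum.basicOpen z := by
      refine (ProjTwistIso16.mem_toSpecZero_preimage_iff z H).2 fun hz => ha0 ?_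
      have h2 : (MvPolynomial.C a : MvPolynomial (Fin (n + 1)) A) ∈ Ideal.span {T 0} := hH ▸ hz
      obtain ⟨c, hc⟩ := Ideal.mem_span_singleton'.1 h2
      have := congrArg (MvPolynomial.eval (fun _ => (0 : A))) hc
      simpa using this.symm
    exact h1 ha
  refine PrimeSpectrum.ext (le_antisymm (fun a ha => ?_) ?_)
  · rw [key a ha]; exact zero_mem _
  · exact PrimeSpectrum.le_iff_specializes _ _ |>.2 ((genericPoint_spec _).specializes trivial)

include hH in
theorem eq_hyperplane [IsIntegral (CohB1.ProjSpace n A)] {y : CohB1.ProjSpace n A} (hy : coheight y = 1)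
    (hyU : y ∉ Set.range (chart n A)) : y = H := by
  rw [mem_range_chart, not_not] at hyU
  have hle : H.asHomogeneousIdeal ≤ y.asHomogeneousIdeal := by
    show H.asHomogeneousIdeal.toIdeal ≤ y.asHomogeneousIdeal.toIdeal
    rw [hH, Ideal.span_singleton_le_iff_mem]
    exact hyU
  have hsp : (H : CohB1.ProjSpace n A) ⤳ y :=
    specializes_iff_mem_closure.2 ((ProjectiveSpectrum.le_iff_mem_closure (CohB1.polyGrading n A) H y).1
      ((ProjectiveSpectrum.as_ideal_le_as_ideal (CohB1.polyGrading n A) H y).1 hle))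
  by_contra hne
  have hηH : genericPoint (CohB1.ProjSpace n A) ⤳ H := (genericPoint_spec _).specializes trivial
  have hne' : genericPoint (CohB1.ProjSpace n A) ≠ H := by
    intro h
    have h1 : genericPoint (CohB1.ProjSpace n A) ∈ (chart n A).opensRange := by
      haveI : IsIntegral (Spec (CommRingCat.of A)) := inferInstance
      obtain ⟨u⟩ : Nonempty 𝔸(Idx.{u} n; Spec (CommRingCat.of A)) :=
        ⟨(AffineSpace.SpecIso (Idx.{u} n) (CommRingCat.of A)).inv (⟨⊥, Ideal.isPrime_bot⟩ : PrimeSpectrum _)⟩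
      exact ((genericPoint_spec _).specializes (show chart n A u ∈ Set.univ from trivial)).mem_open
        (chart n A).opensRange.2 ⟨u, rfl⟩
    rw [h, ← SetLike.mem_coe, Scheme.Hom.coe_opensRange, mem_range_chart] at h1
    refine h1 ?_
    show T 0 ∈ H.asHomogeneousIdeal.toIdeal
    rw [hH]
    exact Ideal.mem_span_singleton_self _
  have h1 : y < H := lt_of_le_not_ge (hsp : y ≤ H) fun h => hne (Inseparable.eq (Specializes.antisymm h hsp))
  have h2 : H < genericPoint (CohB1.ProjSpace n A) :=
    lt_of_le_not_ge (hηH : H ≤ _) fun h => hne' (Inseparable.eq (Specializes.antisymm hηH h))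
  have e1 := Order.coheight_add_one_le h1
  have e2 := Order.coheight_add_one_le h2
  rw [hy] at e1
  have : (1 : ℕ∞) + 1 ≤ 1 := le_trans (by gcongr; exact le_trans le_add_self e2) e1
  exact absurd this (by decide)

end Pn

section

variable {X Y : Scheme.{u}} [IsIntegral X] [IsIntegral Y] [IsLocallyNoetherian X] [IsLocallyNoetherian Y]
  (j : Y ⟶ X) [IsOpenImmersion j]

omit [IsLocallyNoetherian X] [IsLocallyNoetherian Y] in
theorem ffMap_germ {U : X.Opens} [Nonempty U] [Nonempty ↑(j ⁻¹ᵁ U).toScheme] (a : Γ(X, U)) :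
    (WDivX.ffMap j).hom (X.germToFunctionField U a) = Y.germToFunctionField (j ⁻¹ᵁ U) (j.app U a) := by
  obtain ⟨⟨y, hy⟩⟩ := (inferInstance : Nonempty ↑(j ⁻¹ᵁ U).toScheme)
  rw [← Scheme.algebraMap_germ_eq_germToFunctionField X (show j y ∈ U from hy) a,
    ← Scheme.algebraMap_germ_eq_germToFunctionField Y (x := y) hy (j.app U a), ← Scheme.Hom.germ_stalkMap_apply]
  have h := congrArg (fun m : X.presheaf.stalk (j y) ⟶ Y.functionField => m.hom (X.presheaf.germ U (j y) hy a))
    (j.stalkSpecializes_stalkMap (genericPoint Y) y ((genericPoint_spec Y).specializes trivial))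
  refine Eq.trans ?_ h.symm.symm
  change (X.presheaf.stalkSpecializes _ ≫ (X.presheaf.stalkSpecializes _ ≫ j.stalkMap _)).hom _ = _
  rw [TopCat.Presheaf.stalkSpecializes_comp_assoc]

end

namespace Pn

variable (n : ℕ) (A : Type u) [CommRing A] [IsDomain A] [IsNoetherianRing A]
  [IsIntegral (CohB1.ProjSpace n A)] [IsLocallyNoetherian (CohB1.ProjSpace n A)]
  [IsIntegral (Spec (CommRingCat.of A))]
  (hR1 : ∀ x : Spec (CommRingCat.of A), coheight x = 1 →
    IsDiscreteValuationRing ((Spec (CommRingCat.of A)).presheaf.stalk x))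
  (H : CohB1.ProjSpace n A)
  (hH : H.asHomogeneousIdeal.toIdeal = Ideal.span {(MvPolynomial.X 0 : MvPolynomial (Fin (n + 1)) A)})

instance : IsLocallyNoetherian 𝔸(Idx.{u} n; Spec (CommRingCat.of A)) :=
  isLocallyNoetherian_of_isOpenImmersion (chart n A)

instance : IsIntegral 𝔸(Idx.{u} n; Spec (CommRingCat.of A)) := by
  haveI : Nonempty 𝔸(Idx.{u} n; Spec (CommRingCat.of A)) :=
    ⟨(AffineSpace.SpecIso (Idx.{u} n) (CommRingCat.of A)).inv (⟨⊥, Ideal.isPrime_bot⟩ : PrimeSpectrum _)⟩
  exact isIntegral_of_isOpenImmersion (chart n A)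

include hR1 hH in
/-- The hyperplane class has infinite order modulo the divisors of the base. -/
theorem principal (d : ℤ) (D : Spec (CommRingCat.of A) → ℤ) (hD : ∀ x, coheight x ≠ 1 → D x = 0)
    (g : (CohB1.ProjSpace n A).functionField) (hg : g ≠ 0)
    (hH' : Scheme.ord g H = d + D (CohB1.ProjSpace.toSpec n A H))
    (h : ∀ y, y ≠ H → coheight y = 1 → Scheme.ord g y = D (CohB1.ProjSpace.toSpec n A y)) :
    d = 0 ∧ ∃ f : (Spec (CommRingCat.of A)).functionField, f ≠ 0 ∧
      ∀ x, coheight x = 1 → Scheme.ord f x = D x := by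
  let S := Spec (CommRingCat.of A)
  let Y := 𝔸(Idx.{u} n; S)
  let p : Y ⟶ S := Y ↘ S
  have hp : HasPolyCharts p (Idx.{u} n) := hasPolyCharts_affineSpace _ _
  let g₀ := (WDivX.ffMap (chart n A)).hom g
  have hg₀ : g₀ ≠ 0 := fun h0 => hg ((WDivX.ffMap_bijective (chart n A)).1 (h0.trans (map_zero _).symm))
  have hj : ∀ u : Y, chart n A u ≠ H := fun u hu => by
    have h1 := (mem_range_chart n A).1 ⟨u, hu⟩
    refine h1 ?_
    show _ ∈ H.asHomogeneousIdeal.toIdeal
    rw [hH]
    exact Ideal.mem_span_singleton_self _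
  have hord : ∀ u : Y, coheight u = 1 → Scheme.ord g₀ u = D (p u) := fun u hu => by
    rw [WDivX.ord_ffMap (chart n A) g u,
      h _ (hj u) ((coheight_eq_of_isOpenImmersion (chart n A)).trans hu)]
    exact congrArg D (congr($(chart_toSpec n A) u))
  obtain ⟨f, hf, hfg⟩ := exists_ffp_of_ord_zero hp g₀ hg₀ fun y hy hyη => by
    rw [hord y hy, hD]
    rw [hyη, coheight_genericPoint]
    exact zero_ne_one
  refine ⟨?_, f, hf, fun x hx => ?_⟩
  · -- `g` is a constant, hence a unit at `H`
    haveI : Nonempty (⊤ : S.Opens) := ⟨⟨genericPoint S, trivial⟩⟩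
    haveI := functionField_isFractionRing_of_isAffineOpen S ⊤ (isAffineOpen_top S)
    obtain ⟨a, b, hb, hab⟩ := IsFractionRing.div_surjective (A := Γ(S, ⊤)) f
    have ha : a ≠ 0 := fun h0 => hf (by rw [← hab, h0, map_zero, zero_div])
    let q := CohB1.ProjSpace.toSpec n A
    haveI : Nonempty ↑(q ⁻¹ᵁ (⊤ : S.Opens)).toScheme := ⟨⟨H, trivial⟩⟩
    haveI : Nonempty ↑(p ⁻¹ᵁ (⊤ : S.Opens)).toScheme := ⟨⟨genericPoint Y, trivial⟩⟩
    haveI : Nonempty ↑(chart n A ⁻¹ᵁ (q ⁻¹ᵁ (⊤ : S.Opens))).toScheme := ⟨⟨genericPoint Y, trivial⟩⟩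
    let P := CohB1.ProjSpace n A
    have hunit : ∀ c : Γ(S, ⊤), c ≠ 0 → IsUnit (P.presheaf.germ (q ⁻¹ᵁ ⊤) H trivial (q.app ⊤ c)) := by
      intro c hc
      rw [← Scheme.Hom.germ_stalkMap_apply]
      refine IsUnit.map (q.stalkMap H).hom ?_
      haveI : Nonempty (⊤ : S.Opens) := ⟨⟨genericPoint S, trivial⟩⟩
      have hx : q H = genericPoint S := toSpec_hyperplane n A H hH
      have h0 : coheight (q H) = 0 := by rw [hx, coheight_genericPoint]
      letI := S.presheaf.algebra_section_stalk (U := ⊤) ⟨q H, trivial⟩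
      haveI := (isAffineOpen_top S).isLocalization_stalk ⟨q H, trivial⟩
      refine IsLocalization.map_units (S.presheaf.stalk (q H))
        (⟨c, fun hcP => hc ?_⟩ : ((isAffineOpen_top S).primeIdealOf ⟨q H, trivial⟩).asIdeal.primeCompl)
      have hh := height_primeIdealOf (isAffineOpen_top S) (z := q H) trivial
      rw [h0, Ideal.height_eq_zero_iff_eq_bot] at hh
      rw [hh] at hcP
      exact Ideal.mem_bot.1 hcP
    have hcmp : ∀ c : Γ(S, ⊤), (WDivX.ffMap (chart n A)).hom (P.germToFunctionField (q ⁻¹ᵁ ⊤) (q.app ⊤ c)) =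
        ffp hp (S.germToFunctionField ⊤ c) := by
      intro c
      rw [ffMap_germ (chart n A), ffp_germ hp]
      have e : ∀ (p' : Y ⟶ S), p' = chart n A ≫ q → ∀ [Nonempty ↑(p' ⁻¹ᵁ (⊤ : S.Opens)).toScheme],
          Y.germToFunctionField (p' ⁻¹ᵁ ⊤) (p'.app ⊤ c) =
            Y.germToFunctionField (chart n A ⁻¹ᵁ (q ⁻¹ᵁ ⊤)) ((chart n A).app _ (q.app ⊤ c)) := by
        rintro _ rfl _; rfl
      exact (e p (chart_toSpec n A).symm).symm
    have hgq : g = P.germToFunctionField (q ⁻¹ᵁ ⊤) (q.app ⊤ a) / P.germToFunctionField (q ⁻¹ᵁ ⊤) (q.app ⊤ b) := by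
      apply (WDivX.ffMap_bijective (chart n A)).1
      rw [map_div₀, hcmp, hcmp, ← map_div₀]
      exact hfg.symm.trans (congrArg (ffp hp) hab.symm)
    have hord0 : Scheme.ord g H = 0 := by
      by_cases hH1 : coheight H = 1
      · haveI := krullDimLE_of_coheight_le (n := 1) hH1.le
        rw [Scheme.ord_eq_iff hH1 hg, hgq, map_div₀]
        change Ring.ordFrac (P.presheaf.stalk H) (P.germToFunctionField (q ⁻¹ᵁ ⊤) _) /
          Ring.ordFrac (P.presheaf.stalk H) (P.germToFunctionField (q ⁻¹ᵁ ⊤) _) = _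
        rw [← Scheme.algebraMap_germ_eq_germToFunctionField P (x := H) (show H ∈ q ⁻¹ᵁ ⊤ from trivial) (q.app ⊤ a),
          ← Scheme.algebraMap_germ_eq_germToFunctionField P (x := H) (show H ∈ q ⁻¹ᵁ ⊤ from trivial) (q.app ⊤ b),
          Ring.ordFrac_of_isUnit (hunit a ha), Ring.ordFrac_of_isUnit (hunit b (nonZeroDivisors.ne_zero hb)), div_one]
        rfl
      · exact Scheme.ord_eq_zero_of_coheight_neq_one hH1 g
    rw [hord0, hD (CohB1.ProjSpace.toSpec n A H)] at hH'
    · omega
    · rw [toSpec_hyperplane n A H hH, coheight_genericPoint]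
      exact zero_ne_one
  · obtain ⟨y, rfl, hy⟩ := exists_vertical hp hx
    haveI := hR1 _ hx
    rw [← ord_vertical hp hy hx f, hfg, hord y hy]

include hR1 hH in
/-- Every divisor is a multiple of the hyperplane plus a pullback, uniquely. -/
theorem existsUnique (D' : CohB1.ProjSpace n A → ℤ) (hfin : {y | D' y ≠ 0}.Finite) :
    ∃! d : ℤ, ∃ (D : Spec (CommRingCat.of A) → ℤ) (g : (CohB1.ProjSpace n A).functionField),
      (∀ x, coheight x ≠ 1 → D x = 0) ∧ {x | D x ≠ 0}.Finite ∧ g ≠ 0 ∧
      D' H = d + D (CohB1.ProjSpace.toSpec n A H) + Scheme.ord g H ∧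
      ∀ y, y ≠ H → coheight y = 1 → D' y = D (CohB1.ProjSpace.toSpec n A y) + Scheme.ord g y := by
  let S := Spec (CommRingCat.of A)
  have hp : HasPolyCharts (𝔸(Idx.{u} n; S) ↘ S) (Idx.{u} n) := hasPolyCharts_affineSpace _ _
  haveI : CompactSpace 𝔸(Idx.{u} n; S) := QuasiCompact.compactSpace_of_compactSpace (𝔸(Idx.{u} n; S) ↘ S)
  have hfin₀ : {u | D' (chart n A u) ≠ 0}.Finite :=
    hfin.preimage (chart n A).isOpenEmbedding.injective.injOn
  obtain ⟨D, g₀, hD, hDfin, hg₀, hrel⟩ := linEquiv_pullback hp (fun u => D' (chart n A u)) hfin₀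
  obtain ⟨g, hg, hgg⟩ := WDivX.exists_ord_eq (chart n A) g₀ hg₀
  refine ⟨D' H - D (CohB1.ProjSpace.toSpec n A H) - Scheme.ord g H, ⟨D, g, hD, hDfin, hg, by ring, ?_⟩, ?_⟩
  · intro y hyH hy
    obtain ⟨u, rfl⟩ : y ∈ Set.range (chart n A) := by
      by_contra hyU
      exact hyH (eq_hyperplane n A H hH hy hyU)
    have h1 := hrel u ((coheight_eq_of_isOpenImmersion (chart n A)).symm.trans hy)
    rw [hgg] at h1
    rw [h1]
    exact congrArg (fun x => D x + _) (congr($(chart_toSpec n A) u)).symm
  · rintro d ⟨D₂, g₂, hD₂, -, hg₂, hH₂, h₂⟩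
    have key := (principal n A hR1 H hH
      (D' H - D (CohB1.ProjSpace.toSpec n A H) - Scheme.ord g H - d) (fun x => D x - D₂ x)
      (fun x hx => by rw [hD x hx, hD₂ x hx, sub_zero]) (g₂ / g) (div_ne_zero hg₂ hg) ?_ fun y hyH hy => ?_).1
    · omega
    · rw [div_eq_mul_inv, Scheme.ord_mul hg₂ (inv_ne_zero hg)]
      have hinv := Scheme.ord_mul (x := H) hg (inv_ne_zero hg)
      rw [mul_inv_cancel₀ hg, ord_one_eq] at hinv
      omega
    · obtain ⟨u, rfl⟩ : y ∈ Set.range (chart n A) := by
        by_contra hyU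
        exact hyH (eq_hyperplane n A H hH hy hyU)
      have h1 := hrel u ((coheight_eq_of_isOpenImmersion (chart n A)).symm.trans hy)
      rw [hgg] at h1
      have hD1 : D (CohB1.ProjSpace.toSpec n A (chart n A u)) = D ((𝔸(Idx.{u} n; S) ↘ S) u) :=
        congrArg D (congr($(chart_toSpec n A) u))
      have h2 := h₂ _ hyH hy
      rw [div_eq_mul_inv, Scheme.ord_mul hg₂ (inv_ne_zero hg)]
      have hinv := Scheme.ord_mul (x := chart n A u) hg (inv_ne_zero hg)
      rw [mul_inv_cancel₀ hg, ord_one_eq] at hinv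
      omega

end Pn

end Groth.Agent.WDivA16
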