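import Mathlib.RingTheory.Polynomial.Quotient
import Mathlib.RingTheory.Polynomial.UniqueFactorization
import Mathlib.RingTheory.MvPolynomial.Localization
import Mathlib.RingTheory.Ideal.KrullsHeightTheorem
import Mathlib.RingTheory.Ideal.UFD
import Mathlib.RingTheory.OrderOfVanishing.Noetherian
import Mathlib.RingTheory.Localization.FractionRing
import Mathlib.Algebra.MvPolynomial.Nilpotent

/-!
# Height one primes of a polynomial ring over a domain
-/

universe u

open MvPolynomial IsLocalRing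

namespace Groth.Agent.WDivA16

variable {A : Type u} [CommRing A] [IsDomain A] [IsNoetherianRing A] {σ : Type u} [Finite σ]

theorem isPrime_mapC (p : Ideal A) [p.IsPrime] : (p.map (C : A →+* MvPolynomial σ A)).IsPrime :=
  (Ideal.Quotient.isDomain_iff_prime _).1 (quotientEquivQuotientMvPolynomial p).symm.toRingEquiv.toMulEquiv.isDomain

theorem comap_mapC (p : Ideal A) : (p.map (C : A →+* MvPolynomial σ A)).comap C = p := by
  refine le_antisymm (fun a ha => ?_) Ideal.le_comap_map
  have h : p.map (C : A →+* MvPolynomial σ A) ≤ p.comap (constantCoeff : MvPolynomial σ A →+* A) :=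
    Ideal.map_le_iff_le_comap.2 fun b hb => by simpa using hb
  simpa using h ha

theorem height_mapC {p : Ideal A} [p.IsPrime] (hp : p.height = 1) :
    (p.map (C : A →+* MvPolynomial σ A)).height = 1 := by
  haveI := isPrime_mapC (σ := σ) p
  have hne : p ≠ ⊥ := p.ne_bot_of_height_eq_one hp
  obtain ⟨a, hap, ha⟩ := p.ne_bot_iff.1 hne
  refine le_antisymm (Ideal.height_le_one_of_isPrincipal_of_mem_minimalPrimes
    (Ideal.span {(C a : MvPolynomial σ A)}) _ ⟨⟨inferInstance, ?_⟩, fun Q ⟨hQ, hQa⟩ hle => ?_⟩) ?_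
  · exact (Ideal.span_singleton_le_iff_mem _).2 (Ideal.mem_map_of_mem _ hap)
  · haveI := hQ
    have hQp : Q.comap C ≤ p := (Ideal.comap_mono hle).trans (comap_mapC p).le
    have haQ : a ∈ Q.comap C := hQa (Ideal.mem_span_singleton_self _)
    have hne' : Q.comap (C : A →+* MvPolynomial σ A) ≠ ⊥ := fun h => ha (by rwa [h, Ideal.mem_bot] at haQ)
    haveI : p.FiniteHeight := ⟨Or.inr (by rw [hp]; exact ENat.one_ne_top)⟩
    haveI : (Q.comap (C : A →+* MvPolynomial σ A)).FiniteHeight := Ideal.finiteHeight_of_le hQp (Ideal.IsPrime.ne_top ‹p.IsPrime›)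
    have : Q.comap C = p := Ideal.eq_of_le_of_height_le _ hQp (by
      rw [hp]; exact Order.one_le_iff_ne_zero.2 fun h => hne' (Ideal.height_eq_zero_iff_eq_bot.1 h))
    exact Ideal.map_le_iff_le_comap.2 this.ge
  · refine Order.one_le_iff_ne_zero.2 fun h => ha ?_
    have := Ideal.mem_map_of_mem (C : A →+* MvPolynomial σ A) hap
    rw [Ideal.height_eq_zero_iff_eq_bot.1 h, Ideal.mem_bot, C_eq_zero] at this
    exact this

theorem height_one_cases (P : Ideal (MvPolynomial σ A)) [P.IsPrime] (hP : P.height = 1) :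
    P.comap (C : A →+* MvPolynomial σ A) = ⊥ ∨
      ((P.comap (C : A →+* MvPolynomial σ A)).height = 1 ∧ P = (P.comap C).map C) := by
  by_cases hp : P.comap (C : A →+* MvPolynomial σ A) = ⊥
  · exact Or.inl hp
  set p := P.comap (C : A →+* MvPolynomial σ A) with hpdef
  haveI := isPrime_mapC (σ := σ) p
  haveI : P.FiniteHeight := ⟨Or.inr (by rw [hP]; exact ENat.one_ne_top)⟩
  have h0 : ∀ q : Ideal A, q.IsPrime → q ≠ ⊥ → q ≤ p → q.map (C : A →+* MvPolynomial σ A) = P := by
    intro q hq hq0 hqp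
    haveI := isPrime_mapC (σ := σ) q
    have hle : q.map (C : A →+* MvPolynomial σ A) ≤ P := Ideal.map_le_iff_le_comap.2 hqp
    haveI := Ideal.finiteHeight_of_le hle (Ideal.IsPrime.ne_top ‹P.IsPrime›)
    refine Ideal.eq_of_le_of_height_le _ hle ?_
    rw [hP]
    refine Order.one_le_iff_ne_zero.2 fun h => hq0 ?_
    exact (Ideal.map_eq_bot_iff_of_injective (C_injective σ A)).1 (Ideal.height_eq_zero_iff_eq_bot.1 h)
  refine Or.inr ⟨le_antisymm ((Ideal.height_le_iff (p := p) (n := 1)).2 fun q hq hqp => ?_)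
    (Order.one_le_iff_ne_zero.2 fun h => hp (Ideal.height_eq_zero_iff_eq_bot.1 h)), (h0 p inferInstance hp le_rfl).symm⟩
  have hq0 : q = ⊥ := by
    by_contra hq0
    have h2 := congrArg (Ideal.comap (C : A →+* MvPolynomial σ A)) (h0 q hq hq0 hqp.le)
    rw [comap_mapC] at h2
    exact hqp.ne h2
  rw [hq0, Ideal.height_bot]
  exact zero_lt_one

/-- `q` generates the prime `P` above the generic point. -/
def GenAt (P : Ideal (MvPolynomial σ A)) (q : MvPolynomial σ A) : Prop :=
  q ∈ P ∧ ∀ x ∈ P, ∃ s ∉ P, q ∣ s * x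

section horizontal

variable (K : Type u) [Field K] [Algebra A K] [IsFractionRing A K]

theorem disjoint_of_comap_bot {P : Ideal (MvPolynomial σ A)} (h0 : P.comap (C : A →+* MvPolynomial σ A) = ⊥) :
    Disjoint ((nonZeroDivisors A).map (C : A →+* MvPolynomial σ A) : Set (MvPolynomial σ A)) P := by
  rw [Set.disjoint_left]
  rintro _ ⟨a, ha, rfl⟩ haP
  have : a ∈ P.comap (C : A →+* MvPolynomial σ A) := haP
  rw [h0, Ideal.mem_bot] at this
  exact nonZeroDivisors.ne_zero ha this

theorem exists_gen (P : Ideal (MvPolynomial σ A)) [P.IsPrime] (hP : P.height = 1)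
    (h0 : P.comap (C : A →+* MvPolynomial σ A) = ⊥) :
    ∃ q, q ≠ 0 ∧ GenAt P q ∧ ∀ Q : Ideal (MvPolynomial σ A), Q.IsPrime → Q.height = 1 →
      Q.comap (C : A →+* MvPolynomial σ A) = ⊥ → q ∈ Q → Q = P := by
  let K := FractionRing A
  letI := MvPolynomial.algebraMvPolynomial (σ := σ) (R := A) (S := K)
  let M := (nonZeroDivisors A).map (C : A →+* MvPolynomial σ A)
  haveI : IsLocalization M (MvPolynomial σ K) := MvPolynomial.isLocalization _ K
  let ι := algebraMap (MvPolynomial σ A) (MvPolynomial σ K)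
  have hι : Function.Injective ι := MvPolynomial.map_injective _ (IsFractionRing.injective A K)
  haveI hP' : (P.map ι).IsPrime := IsLocalization.isPrime_of_isPrime_disjoint M _ P ‹_› (disjoint_of_comap_bot h0)
  have hcomap := IsLocalization.comap_map_of_isPrime_disjoint M (MvPolynomial σ K) ‹P.IsPrime› (disjoint_of_comap_bot h0)
  have hP'h : (P.map ι).height = 1 := by
    rw [← IsLocalization.height_under M (P.map ι)]; exact hcomap.symm ▸ hP
  obtain ⟨g, hg⟩ := UniqueFactorizationMonoid.isPrincipal_of_height_eq_one hP'h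
  rw [Ideal.submodule_span_eq] at hg
  obtain ⟨⟨⟨q, hq⟩, ⟨s, hs⟩⟩, hqs⟩ :=
    (IsLocalization.mem_map_algebraMap_iff M (MvPolynomial σ K)).1 (hg ▸ Ideal.mem_span_singleton_self g : g ∈ P.map ι)
  have hu : IsUnit (ι s) := IsLocalization.map_units (MvPolynomial σ K) (⟨s, hs⟩ : M)
  have hgq : Ideal.span {ι q} = P.map ι := by
    rw [hg, show ι q = g * ι s from hqs.symm, Ideal.span_singleton_mul_right_unit hu]
  refine ⟨q, fun hq0 => ?_, ⟨hq, fun x hx => ?_⟩, fun Q hQ hQh hQ0 hqQ => ?_⟩
  · rw [hq0, map_zero, Ideal.span_singleton_zero] at hgq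
    exact (P.map ι).ne_bot_of_height_eq_one hP'h hgq.symm
  · obtain ⟨c, hc⟩ := Ideal.mem_span_singleton'.1 (hgq.ge (Ideal.mem_map_of_mem ι hx))
    obtain ⟨⟨c', ⟨t, ht⟩⟩, hct⟩ := IsLocalization.surj M c
    refine ⟨t, Set.disjoint_left.1 (disjoint_of_comap_bot h0) ht, c', hι ?_⟩
    rw [map_mul, map_mul, ← hc, ← show c * ι t = ι c' from hct]
    ring
  · haveI := hQ
    haveI hQ' : (Q.map ι).IsPrime := IsLocalization.isPrime_of_isPrime_disjoint M _ Q hQ (disjoint_of_comap_bot hQ0)
    have hcQ := IsLocalization.comap_map_of_isPrime_disjoint M (MvPolynomial σ K) hQ (disjoint_of_comap_bot hQ0)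
    have hle : P.map ι ≤ Q.map ι := by
      rw [← hgq, Ideal.span_singleton_le_iff_mem]; exact Ideal.mem_map_of_mem ι hqQ
    have hle' : P ≤ Q := hcomap.ge.trans ((Ideal.comap_mono hle).trans hcQ.le)
    haveI : Q.FiniteHeight := ⟨Or.inr (by rw [hQh]; exact ENat.one_ne_top)⟩
    haveI := Ideal.finiteHeight_of_le hle' hQ.ne_top
    exact (Ideal.eq_of_le_of_height_le P hle' (by rw [hP, hQh])).symm

omit [IsDomain A] [IsNoetherianRing A] in
theorem eq_C_of_isUnit {x : MvPolynomial σ K} (hx : IsUnit x) : ∃ c : K, c ≠ 0 ∧ x = C c := by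
  obtain ⟨r, hr, e⟩ := (MvPolynomial.isUnit_iff_eq_C_of_isReduced).1 hx
  exact ⟨r, hr.ne_zero, e⟩

/-- A rational function which is a unit at every horizontal height one prime is a constant. -/
theorem exists_const (L : Type u) [Field L] [Algebra (MvPolynomial σ A) L] [IsFractionRing (MvPolynomial σ A) L]
    (g : L) (hg : g ≠ 0)
    (h : ∀ (P : Ideal (MvPolynomial σ A)) [P.IsPrime], P.height = 1 → P.comap (C : A →+* MvPolynomial σ A) = ⊥ →
      ∃ a b, a ∉ P ∧ b ∉ P ∧ g * algebraMap _ L b = algebraMap _ L a) :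
    ∃ a b : A, a ≠ 0 ∧ b ≠ 0 ∧
      g * algebraMap (MvPolynomial σ A) L (C b) = algebraMap (MvPolynomial σ A) L (C a) := by
  let K := FractionRing A
  letI := MvPolynomial.algebraMvPolynomial (σ := σ) (R := A) (S := K)
  let M := (nonZeroDivisors A).map (C : A →+* MvPolynomial σ A)
  haveI : IsLocalization M (MvPolynomial σ K) := MvPolynomial.isLocalization _ K
  have hM : M ≤ nonZeroDivisors (MvPolynomial σ A) := by
    rintro _ ⟨a, ha, rfl⟩
    exact mem_nonZeroDivisors_of_ne_zero (by rw [ne_eq, C_eq_zero]; exact nonZeroDivisors.ne_zero ha)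
  letI : Algebra (MvPolynomial σ K) L := (IsLocalization.lift (M := M) (g := algebraMap (MvPolynomial σ A) L)
    fun y => (IsLocalization.map_units L (⟨y, hM y.2⟩ : nonZeroDivisors (MvPolynomial σ A)))).toAlgebra
  haveI : IsScalarTower (MvPolynomial σ A) (MvPolynomial σ K) L :=
    IsScalarTower.of_algebraMap_eq fun x => (IsLocalization.lift_eq _ x).symm
  haveI : IsFractionRing (MvPolynomial σ K) L :=
    IsFractionRing.isFractionRing_of_isDomain_of_isLocalization M _ _
  obtain ⟨x, y, hxy, hg'⟩ := IsFractionRing.exists_reduced_fraction (A := MvPolynomial σ K) g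
  have hy : (y : MvPolynomial σ K) ≠ 0 := nonZeroDivisors.ne_zero y.2
  have hgy : g * algebraMap _ L (y : MvPolynomial σ K) = algebraMap _ L x := by
    rw [← hg', IsLocalization.mk'_spec]
  have hx : x ≠ 0 := fun h0 => by
    rw [h0, map_zero, mul_eq_zero, map_eq_zero_iff _ (IsFractionRing.injective (MvPolynomial σ K) L)] at hgy
    exact hgy.elim hg hy
  have key : ∀ q : MvPolynomial σ K, Prime q → (q ∣ x ∨ q ∣ (y : MvPolynomial σ K)) → False := by
    intro q hq hdiv
    haveI : (Ideal.span {q}).IsPrime := (Ideal.span_singleton_prime hq.ne_zero).2 hq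
    let P := (Ideal.span {q}).under (MvPolynomial σ A)
    have hPh : P.height = 1 := by
      rw [IsLocalization.height_under M]
      refine le_antisymm (Ideal.height_le_one_of_isPrincipal_of_mem_minimalPrimes (Ideal.span {q}) _
        ⟨⟨inferInstance, le_rfl⟩, fun Q hQ _ => hQ.2⟩) (Order.one_le_iff_ne_zero.2 fun h => hq.ne_zero ?_)
      exact Ideal.span_singleton_eq_bot.1 (Ideal.height_eq_zero_iff_eq_bot.1 h)
    have hP0 : P.comap (C : A →+* MvPolynomial σ A) = ⊥ := by
      refine eq_bot_iff.2 fun a ha => ?_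
      by_contra ha0
      refine hq.not_unit (isUnit_of_dvd_unit (Ideal.mem_span_singleton.1 (show algebraMap _ _ (C a) ∈ Ideal.span {q} from ha))
        (IsLocalization.map_units (MvPolynomial σ K)
          (⟨C a, a, mem_nonZeroDivisors_of_ne_zero (fun h => ha0 (by simpa using h)), rfl⟩ : M)))
    obtain ⟨a, b, ha, hb, hab⟩ := h P hPh hP0
    have ha' : ¬ q ∣ algebraMap (MvPolynomial σ A) (MvPolynomial σ K) a := fun h => ha (Ideal.mem_span_singleton.2 h)
    have hb' : ¬ q ∣ algebraMap (MvPolynomial σ A) (MvPolynomial σ K) b := fun h => hb (Ideal.mem_span_singleton.2 h)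
    have he : x * algebraMap (MvPolynomial σ A) (MvPolynomial σ K) b =
        (y : MvPolynomial σ K) * algebraMap (MvPolynomial σ A) (MvPolynomial σ K) a := by
      apply IsFractionRing.injective (MvPolynomial σ K) L
      rw [map_mul, map_mul, ← hgy, ← IsScalarTower.algebraMap_apply, ← IsScalarTower.algebraMap_apply, ← hab]
      ring
    rcases hdiv with h' | h'
    · exact ((hq.dvd_or_dvd (he ▸ dvd_mul_of_dvd_left h' _)).elim (fun hy' => hq.not_unit (hxy h' hy')) ha')
    · exact ((hq.dvd_or_dvd (he.symm ▸ dvd_mul_of_dvd_left h' _)).elim (fun hx' => hq.not_unit (hxy hx' h')) hb')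
  have hunit : ∀ z : MvPolynomial σ K, z ≠ 0 → (∀ q, Prime q → q ∣ z → False) → IsUnit z := fun z hz hq => by
    by_contra hzu
    obtain ⟨q, hqi, hqz⟩ := WfDvdMonoid.exists_irreducible_factor hzu hz
    exact hq q (UniqueFactorizationMonoid.irreducible_iff_prime.1 hqi) hqz
  obtain ⟨c, hc, hxc⟩ := eq_C_of_isUnit K (hunit x hx fun q hq h => key q hq (Or.inl h))
  obtain ⟨d, hd, hyd⟩ := eq_C_of_isUnit K (hunit _ hy fun q hq h => key q hq (Or.inr h))
  obtain ⟨⟨u, v⟩, huv⟩ := IsLocalization.surj (nonZeroDivisors A) (c / d)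
  have hu : u ≠ 0 := fun h0 => by
    rw [h0, map_zero, mul_eq_zero, div_eq_zero_iff, map_eq_zero_iff _ (IsFractionRing.injective A K)] at huv
    exact huv.elim (fun h => h.elim hc hd) (nonZeroDivisors.ne_zero v.2)
  refine ⟨u, v, hu, nonZeroDivisors.ne_zero v.2, ?_⟩
  have e : ∀ r : A, algebraMap (MvPolynomial σ A) L (C r) =
      algebraMap (MvPolynomial σ K) L (C (algebraMap A K r)) := fun r => by
    rw [IsScalarTower.algebraMap_apply (MvPolynomial σ A) (MvPolynomial σ K) L]
    exact congrArg _ (MvPolynomial.map_C _ r)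
  rw [e, e]
  have hd' : algebraMap (MvPolynomial σ K) L (C d) ≠ 0 := by
    rw [ne_eq, map_eq_zero_iff _ (IsFractionRing.injective (MvPolynomial σ K) L), C_eq_zero]; exact hd
  rw [hxc, hyd] at hgy
  apply mul_right_cancel₀ hd'
  rw [mul_right_comm, hgy, ← map_mul, ← map_mul, ← map_mul, ← map_mul, ← huv]
  congr 2
  rw [div_mul_eq_mul_div, div_mul_cancel₀ _ hd]

end horizontal

section ord

variable {R S : Type u} [CommRing R] [IsDomain R] [IsDiscreteValuationRing R]
  [CommRing S] [IsDomain S] [IsNoetherianRing S] [IsLocalRing S] [Ring.KrullDimLE 1 S]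

theorem ord_map (φ : R →+* S) (hmax : (maximalIdeal R).map φ = maximalIdeal S)
    (hS : maximalIdeal S ≠ ⊥) (a : R) (ha : a ≠ 0) : Ring.ord S (φ a) = Ring.ord R a := by
  obtain ⟨ϖ, hϖ⟩ := IsDiscreteValuationRing.exists_irreducible R
  obtain ⟨n, u, rfl⟩ := IsDiscreteValuationRing.eq_unit_mul_pow_irreducible ha hϖ
  rw [hϖ.maximalIdeal_eq, Ideal.map_span, Set.image_singleton] at hmax
  have hne : φ ϖ ≠ 0 := fun h => hS (by rw [← hmax, h, Ideal.span_singleton_zero])
  haveI : IsDiscreteValuationRing S := by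
    have hnf : ¬ IsField S := fun hF => hS (IsLocalRing.isField_iff_maximalIdeal_eq.1 hF)
    exact ((IsDiscreteValuationRing.TFAE S hnf).out 0 4 rfl rfl).2 ⟨φ ϖ, by rw [← hmax]⟩
  have hirr : Irreducible (φ ϖ) := (IsDiscreteValuationRing.irreducible_iff_uniformizer _).2 hmax.symm
  rw [map_mul, map_pow, Ring.ord_mul_of_isUnit_left (u.isUnit.map φ), Ring.ord_mul_of_isUnit_left u.isUnit,
    Ring.ord_pow (mem_nonZeroDivisors_of_ne_zero hne), Ring.ord_pow (mem_nonZeroDivisors_of_ne_zero hϖ.ne_zero),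
    Ring.ord_of_irreducible hirr, Ring.ord_of_irreducible hϖ]

end ord

end Groth.Agent.WDivA16
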