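import Groth.Agent.WDivA16.Alg
import Mathlib.AlgebraicGeometry.OrderOfVanishing
import Mathlib.AlgebraicGeometry.Morphisms.Affine
import Mathlib.AlgebraicGeometry.Properties
import Mathlib.RingTheory.KrullDimension.Field

/-!
# Weil divisors on a polynomial bundle
-/

universe u

open CategoryTheory AlgebraicGeometry TopologicalSpace Order IsLocalRing MvPolynomial

set_option backward.isDefEq.respectTransparency false
set_option backward.isDefEq.respectTransparency.types false
set_option linter.style.haveILetI false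
set_option maxHeartbeats 600000

namespace Groth.Agent.WDivA16

variable {X Y : Scheme.{u}} [IsIntegral X] [IsIntegral Y] [IsLocallyNoetherian X] [IsLocallyNoetherian Y]

/-- `p` is a polynomial ring over every affine open. -/
structure HasPolyCharts (p : Y ⟶ X) (σ : Type u) : Prop where
  affine : ∀ U : X.Opens, IsAffineOpen U → IsAffineOpen (p ⁻¹ᵁ U)
  chart : ∀ U : X.Opens, IsAffineOpen U →
    ∃ e : MvPolynomial σ Γ(X, U) ≃+* Γ(Y, p ⁻¹ᵁ U), ∀ a, e (C a) = p.app U a

omit [IsIntegral X] [IsLocallyNoetherian X] [IsIntegral Y] [IsLocallyNoetherian Y] in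
theorem coheight_eq_height {Z : Scheme.{u}} {V : Z.Opens} (hV : IsAffineOpen V) {z : Z} (hz : z ∈ V) :
    ((coheight z : ℕ∞) : WithBot ℕ∞) = (hV.primeIdealOf ⟨z, hz⟩).asIdeal.height := by
  letI := Z.presheaf.algebra_section_stalk ⟨z, hz⟩
  haveI := hV.isLocalization_stalk ⟨z, hz⟩
  rw [← AlgebraicGeometry.ringKrullDim_stalk_eq_coheight z,
    IsLocalization.AtPrime.ringKrullDim_eq_height (hV.primeIdealOf ⟨z, hz⟩).asIdeal]

omit [IsIntegral X] [IsLocallyNoetherian X] [IsIntegral Y] [IsLocallyNoetherian Y] in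
theorem height_primeIdealOf {Z : Scheme.{u}} {V : Z.Opens} (hV : IsAffineOpen V) {z : Z} (hz : z ∈ V) :
    (hV.primeIdealOf ⟨z, hz⟩).asIdeal.height = coheight z :=
  (WithBot.coe_injective (coheight_eq_height hV hz)).symm

omit [IsLocallyNoetherian Y] in
theorem eq_genericPoint_of_coheight {y : Y} (hy : coheight y = 0) : y = genericPoint Y := by
  have h1 : genericPoint Y ⤳ y := (genericPoint_spec Y).specializes trivial
  have h2 : IsMax y := coheight_eq_zero.1 hy
  have h3 : y ⤳ genericPoint Y := (h2 (h1 : y ≤ genericPoint Y) : genericPoint Y ≤ y)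
  exact Inseparable.eq (Specializes.antisymm h3 h1)

omit [IsLocallyNoetherian Y] in
theorem coheight_genericPoint : coheight (genericPoint Y) = 0 :=
  coheight_eq_zero.2 fun z _ => ((genericPoint_spec Y).specializes (Set.mem_univ z) : genericPoint Y ⤳ z)

variable {p : Y ⟶ X} {σ : Type u} [Finite σ] (hp : HasPolyCharts p σ)

/-- The prime of a point in the polynomial chart. -/
noncomputable abbrev chartPrime {U : X.Opens} (hU : IsAffineOpen U) (e : MvPolynomial σ Γ(X, U) ≃+* Γ(Y, p ⁻¹ᵁ U))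
    {y : Y} (hy : p y ∈ U) : Ideal (MvPolynomial σ Γ(X, U)) :=
  ((hp.affine U hU).primeIdealOf ⟨y, hy⟩).asIdeal.comap (e : MvPolynomial σ Γ(X, U) →+* Γ(Y, p ⁻¹ᵁ U))

omit [IsIntegral X] [IsLocallyNoetherian X] [IsIntegral Y] [IsLocallyNoetherian Y] [Finite σ] in
theorem height_chartPrime {U : X.Opens} (hU : IsAffineOpen U)
    (e : MvPolynomial σ Γ(X, U) ≃+* Γ(Y, p ⁻¹ᵁ U)) {y : Y} (hy : p y ∈ U) :
    (chartPrime hp hU e hy).height = coheight y := by
  rw [← height_primeIdealOf (hp.affine U hU) (z := y) hy]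
  exact RingEquiv.height_comap e _

omit [IsIntegral X] [IsLocallyNoetherian X] [IsIntegral Y] [IsLocallyNoetherian Y] [Finite σ] in
theorem comap_chartPrime {U : X.Opens} (hU : IsAffineOpen U)
    (e : MvPolynomial σ Γ(X, U) ≃+* Γ(Y, p ⁻¹ᵁ U)) (he : ∀ a, e (C a) = p.app U a) {y : Y} (hy : p y ∈ U) :
    (chartPrime hp hU e hy).comap C = (hU.primeIdealOf ⟨p y, hy⟩).asIdeal := by
  have h := congrArg PrimeSpectrum.asIdeal (IsAffineOpen.comap_primeIdealOf_appLE (f := p) U hU (p ⁻¹ᵁ U)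
    (hp.affine U hU) le_rfl (x := y) hy)
  rw [Scheme.Hom.appLE_eq_app] at h
  rw [← h]
  ext a
  simp [chartPrime, he]

omit [IsIntegral X] [IsLocallyNoetherian X] [IsIntegral Y] [IsLocallyNoetherian Y] [Finite σ] in
theorem eq_of_chartPrime {U : X.Opens} (hU : IsAffineOpen U)
    (e : MvPolynomial σ Γ(X, U) ≃+* Γ(Y, p ⁻¹ᵁ U)) {y y' : Y} (hy : p y ∈ U) (hy' : p y' ∈ U)
    (h : chartPrime hp hU e hy = chartPrime hp hU e hy') : y = y' := by
  have h2 := Ideal.comap_injective_of_surjective (e : MvPolynomial σ Γ(X, U) →+* Γ(Y, p ⁻¹ᵁ U)) e.surjective h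
  have h3 := congrArg (hp.affine U hU).fromSpec (PrimeSpectrum.ext h2)
  rwa [IsAffineOpen.fromSpec_primeIdealOf, IsAffineOpen.fromSpec_primeIdealOf] at h3

omit [IsIntegral X] [IsLocallyNoetherian X] [IsIntegral Y] [IsLocallyNoetherian Y] [Finite σ] in
theorem exists_point {U : X.Opens} (hU : IsAffineOpen U) (e : MvPolynomial σ Γ(X, U) ≃+* Γ(Y, p ⁻¹ᵁ U))
    (P : Ideal (MvPolynomial σ Γ(X, U))) [hP : P.IsPrime] :
    ∃ (y : Y) (hy : p y ∈ U), chartPrime hp hU e hy = P := by
  let q : PrimeSpectrum Γ(Y, p ⁻¹ᵁ U) :=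
    PrimeSpectrum.comap (e.symm : Γ(Y, p ⁻¹ᵁ U) →+* MvPolynomial σ Γ(X, U)) ⟨P, hP⟩
  let y : Y := (hp.affine U hU).fromSpec q
  have hy : y ∈ p ⁻¹ᵁ U := by
    rw [← SetLike.mem_coe, ← (hp.affine U hU).range_fromSpec]; exact ⟨q, rfl⟩
  have hq : (hp.affine U hU).primeIdealOf ⟨y, hy⟩ = q :=
    (hp.affine U hU).fromSpec.isOpenEmbedding.injective ((hp.affine U hU).fromSpec_primeIdealOf ⟨y, hy⟩)
  refine ⟨y, hy, ?_⟩
  rw [chartPrime, hq]
  ext a
  simp [q]

theorem noetherian_domain {U : X.Opens} (hU : IsAffineOpen U) {x : X} (hx : x ∈ U) :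
    IsDomain Γ(X, U) ∧ IsNoetherianRing Γ(X, U) := by
  haveI : Nonempty U := ⟨⟨x, hx⟩⟩
  exact ⟨inferInstance, IsLocallyNoetherian.component_noetherian ⟨U, hU⟩⟩

include hp in
theorem map_genericPoint : p (genericPoint Y) = genericPoint X := by
  obtain ⟨U, hU, hxU, -⟩ := exists_isAffineOpen_mem_and_subset (x := p (genericPoint Y)) (U := (⊤ : X.Opens)) trivial
  obtain ⟨e, he⟩ := hp.chart U hU
  obtain ⟨hd, hn⟩ := noetherian_domain hU hxU
  refine eq_genericPoint_of_coheight ?_
  rw [← height_primeIdealOf hU hxU, ← comap_chartPrime hp hU e he hxU]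
  have h : (chartPrime hp hU e hxU).height = 0 := by rw [height_chartPrime hp hU e hxU, coheight_genericPoint]
  rw [Ideal.height_eq_zero_iff_eq_bot.1 h, Ideal.comap_bot_of_injective _ (C_injective σ Γ(X, U)), Ideal.height_bot]

include hp in
theorem coheight_map {y : Y} (hy : coheight y = 1) : p y = genericPoint X ∨ coheight (p y) = 1 := by
  obtain ⟨U, hU, hxU, -⟩ := exists_isAffineOpen_mem_and_subset (x := p y) (U := (⊤ : X.Opens)) trivial
  obtain ⟨e, he⟩ := hp.chart U hU
  obtain ⟨hd, hn⟩ := noetherian_domain hU hxU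
  have h : (chartPrime hp hU e hxU).height = 1 := by rw [height_chartPrime hp hU e hxU, hy]
  rcases height_one_cases _ h with h0 | ⟨h1, -⟩
  · refine Or.inl (eq_genericPoint_of_coheight ?_)
    rw [← height_primeIdealOf hU hxU, ← comap_chartPrime hp hU e he hxU, h0, Ideal.height_bot]
  · refine Or.inr ?_
    rw [← height_primeIdealOf hU hxU, ← comap_chartPrime hp hU e he hxU, h1]

include hp in
theorem exists_vertical {x : X} (hx : coheight x = 1) : ∃ y : Y, p y = x ∧ coheight y = 1 := by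
  obtain ⟨U, hU, hxU, -⟩ := exists_isAffineOpen_mem_and_subset (x := x) (U := (⊤ : X.Opens)) trivial
  obtain ⟨e, he⟩ := hp.chart U hU
  obtain ⟨hd, hn⟩ := noetherian_domain hU hxU
  haveI := isPrime_mapC (σ := σ) (hU.primeIdealOf ⟨x, hxU⟩).asIdeal
  obtain ⟨y, hy, hP⟩ := exists_point hp hU e ((hU.primeIdealOf ⟨x, hxU⟩).asIdeal.map C)
  refine ⟨y, ?_, ?_⟩
  · have h := comap_chartPrime hp hU e he hy
    rw [hP, comap_mapC] at h
    have h3 := congrArg hU.fromSpec (PrimeSpectrum.ext h)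
    rwa [IsAffineOpen.fromSpec_primeIdealOf, IsAffineOpen.fromSpec_primeIdealOf, eq_comm] at h3
  · rw [← height_chartPrime hp hU e hy, hP]
    exact height_mapC (by rw [height_primeIdealOf hU hxU, hx])

include hp in
theorem vertical_unique {y y' : Y} (hy : coheight y = 1) (hy' : coheight y' = 1) (hx : coheight (p y) = 1)
    (h : p y = p y') : y = y' := by
  obtain ⟨U, hU, hxU, -⟩ := exists_isAffineOpen_mem_and_subset (x := p y) (U := (⊤ : X.Opens)) trivial
  obtain ⟨e, he⟩ := hp.chart U hU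
  obtain ⟨hd, hn⟩ := noetherian_domain hU hxU
  have key : ∀ (z : Y) (hzU : p z ∈ U), coheight z = 1 → coheight (p z) = 1 →
      chartPrime hp hU e hzU = ((hU.primeIdealOf ⟨p z, hzU⟩).asIdeal).map C := by
    intro z hzU hz1 hpz
    rcases height_one_cases _ (show (chartPrime hp hU e hzU).height = 1 by
      rw [height_chartPrime hp hU e hzU, hz1]) with h0 | ⟨-, h1⟩
    · exfalso
      rw [comap_chartPrime hp hU e he hzU] at h0
      have := height_primeIdealOf hU hzU
      rw [h0, Ideal.height_bot, hpz] at this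
      exact zero_ne_one this
    · rwa [comap_chartPrime hp hU e he hzU] at h1
  have hx' : coheight (p y') = 1 := h ▸ hx
  refine eq_of_chartPrime hp hU e hxU (h ▸ hxU) ?_
  rw [key y hxU hy hx, key y' (h ▸ hxU) hy' hx']
  congr 3
  exact Subtype.ext h

/-- The map of function fields. -/
noncomputable def ffp : X.functionField →+* Y.functionField :=
  (X.presheaf.stalkSpecializes (specializes_of_eq (map_genericPoint hp)) ≫ p.stalkMap (genericPoint Y)).hom

theorem ffp_algebraMap (y : Y) (a : X.presheaf.stalk (p y)) :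
    ffp hp (algebraMap (X.presheaf.stalk (p y)) X.functionField a) =
      algebraMap (Y.presheaf.stalk y) Y.functionField (p.stalkMap y a) := by
  have h := congrArg (fun m : X.presheaf.stalk (p y) ⟶ Y.functionField => m.hom a)
    (p.stalkSpecializes_stalkMap (genericPoint Y) y ((genericPoint_spec Y).specializes trivial))
  refine Eq.trans ?_ h.symm.symm
  change (X.presheaf.stalkSpecializes _ ≫ (X.presheaf.stalkSpecializes _ ≫ p.stalkMap _)).hom a = _
  rw [TopCat.Presheaf.stalkSpecializes_comp_assoc]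

theorem ffp_germ {U : X.Opens} [Nonempty U] [Nonempty ↑(p ⁻¹ᵁ U).toScheme] (a : Γ(X, U)) :
    ffp hp (X.germToFunctionField U a) = Y.germToFunctionField (p ⁻¹ᵁ U) (p.app U a) := by
  obtain ⟨⟨y, hy⟩⟩ := (inferInstance : Nonempty ↑(p ⁻¹ᵁ U).toScheme)
  rw [← Scheme.algebraMap_germ_eq_germToFunctionField X (show p y ∈ U from hy) a, ffp_algebraMap hp y,
    ← Scheme.algebraMap_germ_eq_germToFunctionField Y (x := y) hy (p.app U a), Scheme.Hom.germ_stalkMap_apply]

omit [IsIntegral X] [IsLocallyNoetherian X] in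
theorem maximalIdeal_ne_bot {y : Y} (hy : coheight y = 1) : maximalIdeal (Y.presheaf.stalk y) ≠ ⊥ := fun h => by
  have hF : IsField (Y.presheaf.stalk y) := IsLocalRing.isField_iff_maximalIdeal_eq.2 h
  letI := hF.toField
  have := ringKrullDim_eq_zero_of_field (Y.presheaf.stalk y)
  rw [AlgebraicGeometry.ringKrullDim_stalk_eq_coheight y, hy] at this
  exact one_ne_zero this

include hp in
theorem map_maximalIdeal {y : Y} (hy : coheight y = 1) (hx : coheight (p y) = 1) :
    (maximalIdeal (X.presheaf.stalk (p y))).map (p.stalkMap y).hom = maximalIdeal (Y.presheaf.stalk y) := by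
  obtain ⟨U, hU, hxU, -⟩ := exists_isAffineOpen_mem_and_subset (x := p y) (U := (⊤ : X.Opens)) trivial
  obtain ⟨e, he⟩ := hp.chart U hU
  obtain ⟨hd, hn⟩ := noetherian_domain hU hxU
  letI := X.presheaf.algebra_section_stalk ⟨p y, hxU⟩
  haveI := hU.isLocalization_stalk ⟨p y, hxU⟩
  letI := Y.presheaf.algebra_section_stalk (U := p ⁻¹ᵁ U) ⟨y, hxU⟩
  haveI := (hp.affine U hU).isLocalization_stalk ⟨y, hxU⟩
  rw [← IsLocalization.AtPrime.map_eq_maximalIdeal (hU.primeIdealOf ⟨p y, hxU⟩).asIdeal (X.presheaf.stalk (p y)),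
    ← IsLocalization.AtPrime.map_eq_maximalIdeal ((hp.affine U hU).primeIdealOf ⟨y, hxU⟩).asIdeal (Y.presheaf.stalk y),
    Ideal.map_map]
  rcases height_one_cases _ (show (chartPrime hp hU e hxU).height = 1 by
    rw [height_chartPrime hp hU e hxU, hy]) with h0 | ⟨-, h1⟩
  · exfalso
    rw [comap_chartPrime hp hU e he hxU] at h0
    have := height_primeIdealOf hU hxU
    rw [h0, Ideal.height_bot, hx] at this
    exact zero_ne_one this
  · rw [comap_chartPrime hp hU e he hxU] at h1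
    have h2 := congrArg (Ideal.map (e : MvPolynomial σ Γ(X, U) →+* Γ(Y, p ⁻¹ᵁ U))) h1
    simp only [chartPrime] at h2
    rw [Ideal.map_comap_of_surjective (e : MvPolynomial σ Γ(X, U) →+* Γ(Y, p ⁻¹ᵁ U)) e.surjective, Ideal.map_map] at h2
    rw [h2, Ideal.map_map]
    refine congrArg (fun φ => Ideal.map φ _) (RingHom.ext fun a => ?_)
    change p.stalkMap y (X.presheaf.germ U (p y) hxU a) = Y.presheaf.germ (p ⁻¹ᵁ U) y hxU (e (C a))
    rw [he, Scheme.Hom.germ_stalkMap_apply]

theorem ord_vertical {y : Y} (hy : coheight y = 1) (hx : coheight (p y) = 1)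
    [IsDiscreteValuationRing (X.presheaf.stalk (p y))] (f : X.functionField) :
    Scheme.ord (ffp hp f) y = Scheme.ord f (p y) := by
  haveI := krullDimLE_of_coheight_le (n := 1) hy.le
  haveI := krullDimLE_of_coheight_le (n := 1) hx.le
  rw [Scheme.ord_eq_ordHom_of_coheight_eq_one hy, Scheme.ord_eq_ordHom_of_coheight_eq_one hx]
  congr 2
  change Ring.ordFrac (Y.presheaf.stalk y) (ffp hp f) = Ring.ordFrac (X.presheaf.stalk (p y)) f
  obtain ⟨a, b, hb, rfl⟩ := IsFractionRing.div_surjective (A := X.presheaf.stalk (p y)) f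
  have key : ∀ c : X.presheaf.stalk (p y), c ≠ 0 →
      Ring.ordFrac (Y.presheaf.stalk y) (ffp hp (algebraMap _ X.functionField c)) =
      Ring.ordFrac (X.presheaf.stalk (p y)) (algebraMap _ X.functionField c) := by
    intro c hc
    have hc' : p.stalkMap y c ≠ 0 := fun h => hc (IsFractionRing.injective (X.presheaf.stalk (p y)) X.functionField
      ((ffp hp).injective (by rw [ffp_algebraMap hp, h, map_zero, map_zero, map_zero])))
    rw [ffp_algebraMap hp, Ring.ordFrac_eq_ord (R := Y.presheaf.stalk y) hc',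
      Ring.ordFrac_eq_ord (R := X.presheaf.stalk (p y)) hc,
      Ring.ordMonoidWithZeroHom_eq_ord (mem_nonZeroDivisors_of_ne_zero hc'),
      Ring.ordMonoidWithZeroHom_eq_ord (mem_nonZeroDivisors_of_ne_zero hc)]
    congr 1
    exact ord_map (p.stalkMap y).hom (map_maximalIdeal hp hy hx) (maximalIdeal_ne_bot hy) c hc
  rcases eq_or_ne a 0 with rfl | ha
  · simp
  rw [map_div₀, map_div₀, map_div₀, key a ha, key b (nonZeroDivisors.ne_zero hb)]

include hp in
theorem exists_ord_single {U : X.Opens} (hU : IsAffineOpen U) (hη : genericPoint X ∈ U) {y : Y}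
    (hy : coheight y = 1) (hyη : p y = genericPoint X) :
    IsDiscreteValuationRing (Y.presheaf.stalk y) ∧ ∃ g : Y.functionField, g ≠ 0 ∧ Scheme.ord g y = 1 ∧
      ∀ y' : Y, coheight y' = 1 → p y' = genericPoint X → y' ≠ y → Scheme.ord g y' = 0 := by
  obtain ⟨e, he⟩ := hp.chart U hU
  obtain ⟨hd, hn⟩ := noetherian_domain hU hη
  have hyU : p y ∈ U := hyη.symm ▸ hη
  haveI : Nonempty ↑(p ⁻¹ᵁ U).toScheme := ⟨⟨y, hyU⟩⟩
  have hbot : ∀ (z : Y) (hz : p z ∈ U), p z = genericPoint X → (chartPrime hp hU e hz).comap C = ⊥ := by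
    intro z hz hzη
    rw [comap_chartPrime hp hU e he hz, ← Ideal.height_eq_zero_iff_eq_bot, height_primeIdealOf hU hz, hzη,
      coheight_genericPoint]
  obtain ⟨q, hq0, ⟨hqP, hgen⟩, huniq⟩ := exists_gen (chartPrime hp hU e hyU)
    (by rw [height_chartPrime hp hU e hyU, hy]) (hbot y hyU hyη)
  letI := Y.presheaf.algebra_section_stalk (U := p ⁻¹ᵁ U) ⟨y, hyU⟩
  haveI := (hp.affine U hU).isLocalization_stalk ⟨y, hyU⟩
  let germ : Γ(Y, p ⁻¹ᵁ U) →+* Y.presheaf.stalk y := (Y.presheaf.germ (p ⁻¹ᵁ U) y hyU).hom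
  have hmax : maximalIdeal (Y.presheaf.stalk y) = Ideal.span {germ (e q)} := by
    refine le_antisymm ?_ ((Ideal.span_singleton_le_iff_mem _).2
      ((IsLocalization.AtPrime.to_map_mem_maximal_iff _ ((hp.affine U hU).primeIdealOf ⟨y, hyU⟩).asIdeal (e q)).2 hqP))
    rw [← IsLocalization.AtPrime.map_eq_maximalIdeal ((hp.affine U hU).primeIdealOf ⟨y, hyU⟩).asIdeal
      (Y.presheaf.stalk y), Ideal.map_le_iff_le_comap]
    intro x hx
    obtain ⟨s, hs, c, hc⟩ := hgen (e.symm x) (show e (e.symm x) ∈ _ by rwa [e.apply_symm_apply])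
    have hu : IsUnit (germ (e s)) := IsLocalization.map_units (Y.presheaf.stalk y)
      (⟨e s, hs⟩ : ((hp.affine U hU).primeIdealOf ⟨y, hyU⟩).asIdeal.primeCompl)
    rw [Ideal.mem_comap, ← Ideal.unit_mul_mem_iff_mem _ hu]
    refine Ideal.mem_span_singleton.2 ⟨germ (e c), ?_⟩
    change germ (e s) * germ x = germ (e q) * germ (e c)
    rw [← map_mul, ← map_mul, ← map_mul e, ← hc, map_mul e, e.apply_symm_apply]
  haveI hdvr : IsDiscreteValuationRing (Y.presheaf.stalk y) := by
    have hnf : ¬ IsField (Y.presheaf.stalk y) := fun hF => maximalIdeal_ne_bot hy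
      (IsLocalRing.isField_iff_maximalIdeal_eq.1 hF)
    exact ((IsDiscreteValuationRing.TFAE _ hnf).out 0 4 rfl rfl).2 ⟨germ (e q), hmax⟩
  haveI := krullDimLE_of_coheight_le (n := 1) hy.le
  have hg0 : Y.germToFunctionField (p ⁻¹ᵁ U) (e q) ≠ 0 := by
    rw [map_ne_zero_iff _ (Scheme.germToFunctionField_injective _ _)]
    simpa using hq0
  refine ⟨hdvr, Y.germToFunctionField (p ⁻¹ᵁ U) (e q), hg0, ?_, fun y' hy' hy'η hne => ?_⟩
  · rw [Scheme.ord_eq_iff hy hg0, ← Scheme.algebraMap_germ_eq_germToFunctionField Y (x := y) hyU (e q)]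
    exact Ring.ordFrac_irreducible ((IsDiscreteValuationRing.irreducible_iff_uniformizer _).2 hmax)
  · have hy'U : p y' ∈ U := hy'η.symm ▸ hη
    haveI := krullDimLE_of_coheight_le (n := 1) hy'.le
    letI := Y.presheaf.algebra_section_stalk (U := p ⁻¹ᵁ U) ⟨y', hy'U⟩
    haveI := (hp.affine U hU).isLocalization_stalk ⟨y', hy'U⟩
    have hq' : q ∉ chartPrime hp hU e hy'U := fun h => hne (eq_of_chartPrime hp hU e hy'U hyU
      (huniq _ inferInstance (by rw [height_chartPrime hp hU e hy'U, hy']) (hbot y' hy'U hy'η) h))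
    rw [Scheme.ord_eq_iff hy' hg0, ← Scheme.algebraMap_germ_eq_germToFunctionField Y (x := y') hy'U (e q)]
    exact Ring.ordFrac_of_isUnit (IsLocalization.map_units (Y.presheaf.stalk y')
      (⟨e q, hq'⟩ : ((hp.affine U hU).primeIdealOf ⟨y', hy'U⟩).asIdeal.primeCompl))

include hp in
theorem exists_ffp_of_ord_zero (g : Y.functionField) (hg : g ≠ 0)
    (h : ∀ y : Y, coheight y = 1 → p y = genericPoint X → Scheme.ord g y = 0) :
    ∃ f : X.functionField, f ≠ 0 ∧ ffp hp f = g := by
  obtain ⟨U, hU, hη, -⟩ := exists_isAffineOpen_mem_and_subset (x := genericPoint X) (U := (⊤ : X.Opens)) trivial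
  obtain ⟨e, he⟩ := hp.chart U hU
  obtain ⟨hd, hn⟩ := noetherian_domain hU hη
  haveI : Nonempty U := ⟨⟨_, hη⟩⟩
  haveI : Nonempty ↑(p ⁻¹ᵁ U).toScheme := ⟨⟨genericPoint Y, show p (genericPoint Y) ∈ U from (map_genericPoint hp).symm ▸ hη⟩⟩
  haveI := functionField_isFractionRing_of_isAffineOpen Y (p ⁻¹ᵁ U) (hp.affine U hU)
  letI : Algebra (MvPolynomial σ Γ(X, U)) Y.functionField :=
    ((Y.germToFunctionField (p ⁻¹ᵁ U)).hom.comp (e : MvPolynomial σ Γ(X, U) →+* Γ(Y, p ⁻¹ᵁ U))).toAlgebra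
  haveI : IsFractionRing (MvPolynomial σ Γ(X, U)) Y.functionField := by
    refine ⟨⟨?_, ?_, ?_⟩⟩
    · rintro ⟨a, ha⟩
      refine IsLocalization.map_units Y.functionField (⟨e a, ?_⟩ : nonZeroDivisors Γ(Y, p ⁻¹ᵁ U))
      exact mem_nonZeroDivisors_of_ne_zero (by simpa using nonZeroDivisors.ne_zero ha)
    · intro z
      obtain ⟨⟨a, b⟩, hab⟩ := IsLocalization.surj (nonZeroDivisors Γ(Y, p ⁻¹ᵁ U)) z
      refine ⟨⟨e.symm a, ⟨e.symm b, mem_nonZeroDivisors_of_ne_zero (by simpa using nonZeroDivisors.ne_zero b.2)⟩⟩, ?_⟩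
      change z * Y.germToFunctionField _ (e (e.symm b)) = Y.germToFunctionField _ (e (e.symm a))
      rw [e.apply_symm_apply, e.apply_symm_apply]
      exact hab
    · intro a b hab
      exact ⟨1, by rw [e.injective (Scheme.germToFunctionField_injective _ _ hab)]⟩
  obtain ⟨a, b, ha, hb, hab⟩ := exists_const (σ := σ) (A := Γ(X, U)) Y.functionField g hg fun P hP hPh hP0 => by
    obtain ⟨y, hyU, hyP⟩ := exists_point hp hU e P
    have hy : coheight y = 1 := by rw [← height_chartPrime hp hU e hyU, hyP, hPh]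
    have hyη : p y = genericPoint X := eq_genericPoint_of_coheight (by
      rw [← height_primeIdealOf hU hyU, ← comap_chartPrime hp hU e he hyU, hyP, hP0, Ideal.height_bot])
    obtain ⟨hdvr, -⟩ := exists_ord_single hp hU hη hy hyη
    haveI := hdvr
    haveI := krullDimLE_of_coheight_le (n := 1) hy.le
    letI := Y.presheaf.algebra_section_stalk (U := p ⁻¹ᵁ U) ⟨y, hyU⟩
    haveI := (hp.affine U hU).isLocalization_stalk ⟨y, hyU⟩
    have h1 : g ∈ MonoidHom.mker (Ring.ordFrac (R := Y.presheaf.stalk y) (K := Y.functionField)) :=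
      (Scheme.ord_eq_iff hy hg).1 (h y hy hyη)
    rw [Ring.mker_ordFrac_eq_isUnitSubmonoid] at h1
    obtain ⟨u, hu, hug⟩ := h1
    obtain ⟨⟨a, b⟩, hab⟩ := IsLocalization.surj ((hp.affine U hU).primeIdealOf ⟨y, hyU⟩).asIdeal.primeCompl u
    have hb : IsUnit (algebraMap Γ(Y, p ⁻¹ᵁ U) (Y.presheaf.stalk y) b.1) := IsLocalization.map_units _ b
    have ha' : a ∉ ((hp.affine U hU).primeIdealOf ⟨y, hyU⟩).asIdeal := fun ha' => by
      have := (IsLocalization.AtPrime.to_map_mem_maximal_iff (Y.presheaf.stalk y)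
        ((hp.affine U hU).primeIdealOf ⟨y, hyU⟩).asIdeal a).2 ha'
      rw [← show u * algebraMap Γ(Y, p ⁻¹ᵁ U) (Y.presheaf.stalk y) b.1 = algebraMap _ _ a from hab] at this
      exact (IsLocalRing.mem_maximalIdeal _).1 this ((hu : IsUnit u).mul hb)
    refine ⟨e.symm a, e.symm b, ?_, ?_, ?_⟩
    · rw [← hyP]; exact fun h => ha' (e.apply_symm_apply a ▸ h)
    · rw [← hyP]; exact fun h => b.2 (e.apply_symm_apply b.1 ▸ h)
    · change g * Y.germToFunctionField _ (e (e.symm b)) = Y.germToFunctionField _ (e (e.symm a))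
      rw [e.apply_symm_apply, e.apply_symm_apply, ← Scheme.algebraMap_germ_eq_germToFunctionField Y (x := y) hyU,
        ← Scheme.algebraMap_germ_eq_germToFunctionField Y (x := y) hyU, ← hug]
      change algebraMap (Y.presheaf.stalk y) Y.functionField u * _ = _
      rw [← map_mul]
      exact congrArg _ hab
  have hb' : X.germToFunctionField U b ≠ 0 := by
    rw [map_ne_zero_iff _ (Scheme.germToFunctionField_injective _ _)]; exact hb
  refine ⟨X.germToFunctionField U a / X.germToFunctionField U b, div_ne_zero ?_ hb', ?_⟩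
  · rw [map_ne_zero_iff _ (Scheme.germToFunctionField_injective _ _)]; exact ha
  · rw [map_div₀, ffp_germ hp, ffp_germ hp, div_eq_iff ?_, ← he, ← he]
    · exact hab.symm
    · rw [← ffp_germ hp]
      exact (map_ne_zero _).2 hb'

theorem finite_ord_ne_zero [CompactSpace Y] (g : Y.functionField) : {y : Y | Scheme.ord g y ≠ 0}.Finite := by
  classical
  have hloc : ∀ y₀ : Y, ∃ V : Y.Opens, y₀ ∈ V ∧ {y | y ∈ V ∧ Scheme.ord g y ≠ 0}.Finite := by
    intro y₀
    obtain ⟨V, hV, hyV, -⟩ := exists_isAffineOpen_mem_and_subset (x := y₀) (U := (⊤ : Y.Opens)) trivial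
    haveI : Nonempty V := ⟨⟨y₀, hyV⟩⟩
    haveI : IsNoetherianRing Γ(Y, V) := IsLocallyNoetherian.component_noetherian ⟨V, hV⟩
    haveI := functionField_isFractionRing_of_isAffineOpen Y V hV
    obtain ⟨a, b, hb, hab⟩ := IsFractionRing.div_surjective (A := Γ(Y, V)) g
    refine ⟨V, hyV, ?_⟩
    rcases eq_or_ne g 0 with hg | hg
    · refine Set.finite_empty.subset fun y hy => hy.2 ?_
      rw [hg, Scheme.ord_zero]; rfl
    have ha : a ≠ 0 := fun h => hg (by rw [← hab, h, map_zero, zero_div])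
    refine Set.Finite.of_finite_image (f := fun y => if h : y ∈ V then (hV.primeIdealOf ⟨y, h⟩).asIdeal else ⊤)
      ((((Ideal.span {a}).finite_minimalPrimes_of_isNoetherianRing).union
        ((Ideal.span {b}).finite_minimalPrimes_of_isNoetherianRing)).subset ?_) fun y hy y' hy' e => ?_
    · rintro _ ⟨y, ⟨hy, hord⟩, rfl⟩
      simp only [dif_pos hy]
      have h1 : coheight y = 1 := by_contra fun h => hord (Scheme.ord_eq_zero_of_coheight_neq_one h g)
      have key : ∀ c : Γ(Y, V), c ≠ 0 → c ∈ (hV.primeIdealOf ⟨y, hy⟩).asIdeal →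
          (hV.primeIdealOf ⟨y, hy⟩).asIdeal ∈ (Ideal.span {c}).minimalPrimes := by
        intro c hc hcP
        refine ⟨⟨inferInstance, (Ideal.span_singleton_le_iff_mem _).2 hcP⟩, fun Q ⟨hQ, hcQ⟩ hle => ?_⟩
        haveI := hQ
        have hP1 : (hV.primeIdealOf ⟨y, hy⟩).asIdeal.height = 1 := by rw [height_primeIdealOf hV hy, h1]
        haveI : (hV.primeIdealOf ⟨y, hy⟩).asIdeal.FiniteHeight := ⟨Or.inr (by rw [hP1]; exact ENat.one_ne_top)⟩
        haveI := Ideal.finiteHeight_of_le hle (Ideal.IsPrime.ne_top inferInstance)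
        refine (Ideal.eq_of_le_of_height_le _ hle ?_).ge
        rw [hP1]
        refine Order.one_le_iff_ne_zero.2 fun h0 => hc ?_
        have := hcQ (Ideal.mem_span_singleton_self c)
        rwa [Ideal.height_eq_zero_iff_eq_bot.1 h0] at this
      by_contra hno
      rw [Set.mem_union, not_or] at hno
      have ha' : a ∉ (hV.primeIdealOf ⟨y, hy⟩).asIdeal := fun h => hno.1 (key a ha h)
      have hb' : b ∉ (hV.primeIdealOf ⟨y, hy⟩).asIdeal := fun h => hno.2 (key b (nonZeroDivisors.ne_zero hb) h)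
      letI := Y.presheaf.algebra_section_stalk ⟨y, hy⟩
      haveI := hV.isLocalization_stalk ⟨y, hy⟩
      haveI := krullDimLE_of_coheight_le (n := 1) h1.le
      refine hord ((Scheme.ord_eq_iff h1 hg).2 ?_)
      rw [← hab, map_div₀]
      change Ring.ordFrac (Y.presheaf.stalk y) (Y.germToFunctionField V a) /
        Ring.ordFrac (Y.presheaf.stalk y) (Y.germToFunctionField V b) = _
      rw [← Scheme.algebraMap_germ_eq_germToFunctionField Y hy a, ← Scheme.algebraMap_germ_eq_germToFunctionField Y hy b,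
        Ring.ordFrac_of_isUnit (show IsUnit (Y.presheaf.germ V y hy a) from IsLocalization.map_units (Y.presheaf.stalk y)
          (⟨a, ha'⟩ : (hV.primeIdealOf ⟨y, hy⟩).asIdeal.primeCompl)),
        Ring.ordFrac_of_isUnit (show IsUnit (Y.presheaf.germ V y hy b) from IsLocalization.map_units (Y.presheaf.stalk y)
          (⟨b, hb'⟩ : (hV.primeIdealOf ⟨y, hy⟩).asIdeal.primeCompl)), div_one]
      rfl
    · simp only [dif_pos hy.1, dif_pos hy'.1] at e
      have h3 := congrArg hV.fromSpec (PrimeSpectrum.ext e)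
      rwa [IsAffineOpen.fromSpec_primeIdealOf, IsAffineOpen.fromSpec_primeIdealOf] at h3
  choose V hV hfin using hloc
  obtain ⟨t, ht⟩ := isCompact_univ.elim_finite_subcover (fun y => (V y : Set Y)) (fun y => (V y).isOpen)
    fun y _ => Set.mem_iUnion.2 ⟨y, hV y⟩
  refine (t.finite_toSet.biUnion fun y _ => hfin y).subset fun y hy => ?_
  obtain ⟨y₀, hy₀, hyy⟩ := Set.mem_iUnion₂.1 (ht (Set.mem_univ y))
  exact Set.mem_iUnion₂.2 ⟨y₀, hy₀, hyy, hy⟩

theorem ord_one_eq (y : Y) : Scheme.ord (1 : Y.functionField) y = 0 := by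
  have h := Scheme.ord_mul (x := y) (one_ne_zero (α := Y.functionField)) one_ne_zero
  rw [mul_one] at h
  omega

theorem ord_zpow {g : Y.functionField} (hg : g ≠ 0) (n : ℤ) (y : Y) :
    Scheme.ord (g ^ n) y = n * Scheme.ord g y := by
  induction n with
  | zero => rw [zpow_zero, ord_one_eq, zero_mul]
  | succ i ih => rw [zpow_add₀ hg, zpow_one, Scheme.ord_mul (zpow_ne_zero _ hg) hg, ih]; ring
  | pred i ih =>
    have := Scheme.ord_mul (x := y) (zpow_ne_zero (-(i : ℤ) - 1) hg) hg
    rw [← zpow_add_one₀ hg, sub_add_cancel, ih] at this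
    linarith

theorem ord_prod {ι : Type*} (s : Finset ι) (g : ι → Y.functionField) (hg : ∀ i ∈ s, g i ≠ 0) (y : Y) :
    Scheme.ord (∏ i ∈ s, g i) y = ∑ i ∈ s, Scheme.ord (g i) y := by
  classical
  induction s using Finset.induction with
  | empty => rw [Finset.prod_empty, Finset.sum_empty, ord_one_eq]
  | insert i s hi ih =>
    rw [Finset.prod_insert hi, Finset.sum_insert hi, Scheme.ord_mul (hg i (Finset.mem_insert_self _ _))
      (Finset.prod_ne_zero_iff.2 fun j hj => hg j (Finset.mem_insert_of_mem hj)),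
      ih fun j hj => hg j (Finset.mem_insert_of_mem hj)]

variable (hR1 : ∀ x : X, coheight x = 1 → IsDiscreteValuationRing (X.presheaf.stalk x))

include hp hR1 in
theorem principal_of_pullback (D : X → ℤ) (hD : ∀ x, coheight x ≠ 1 → D x = 0) (g : Y.functionField) (hg : g ≠ 0)
    (h : ∀ y : Y, coheight y = 1 → Scheme.ord g y = D (p y)) :
    ∃ f : X.functionField, f ≠ 0 ∧ ∀ x : X, coheight x = 1 → Scheme.ord f x = D x := by
  obtain ⟨f, hf, rfl⟩ := exists_ffp_of_ord_zero hp g hg fun y hy hyη => by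
    rw [h y hy, hD]
    rw [hyη, coheight_genericPoint]
    exact zero_ne_one
  refine ⟨f, hf, fun x hx => ?_⟩
  obtain ⟨y, rfl, hy⟩ := exists_vertical hp hx
  haveI := hR1 _ hx
  rw [← ord_vertical hp hy hx f, h y hy]

include hp in
theorem linEquiv_pullback [CompactSpace Y] (D' : Y → ℤ) (hfin : {y | D' y ≠ 0}.Finite) :
    ∃ (D : X → ℤ) (g : Y.functionField), (∀ x, coheight x ≠ 1 → D x = 0) ∧ {x | D x ≠ 0}.Finite ∧ g ≠ 0 ∧
      ∀ y : Y, coheight y = 1 → D' y = D (p y) + Scheme.ord g y := by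
  classical
  obtain ⟨U, hU, hη, -⟩ := exists_isAffineOpen_mem_and_subset (x := genericPoint X) (U := (⊤ : X.Opens)) trivial
  let T := hfin.toFinset.filter fun y => coheight y = 1 ∧ p y = genericPoint X
  have hT : ∀ y ∈ T, coheight y = 1 ∧ p y = genericPoint X := fun y hy => (Finset.mem_filter.1 hy).2
  choose! q hq0 hq1 hq2 using fun y hy => (exists_ord_single hp hU hη (hT y hy).1 (hT y hy).2).2
  let g := ∏ y ∈ T, q y ^ D' y
  have hg : g ≠ 0 := Finset.prod_ne_zero_iff.2 fun y hy => zpow_ne_zero _ (hq0 y hy)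
  have hgord : ∀ y, coheight y = 1 → p y = genericPoint X → Scheme.ord g y = D' y := by
    intro y hy hyη
    rw [ord_prod T _ fun i hi => zpow_ne_zero _ (hq0 i hi)]
    rw [Finset.sum_eq_single y (fun z hz hne => by rw [ord_zpow (hq0 z hz), hq2 z hz y hy hyη hne.symm, mul_zero])
      (fun hyT => ?_)]
    · by_cases hyT : y ∈ T
      · rw [ord_zpow (hq0 y hyT), hq1 y hyT, mul_one]
      · have h0 : D' y = 0 := by
          by_contra h0
          exact hyT (Finset.mem_filter.2 ⟨hfin.mem_toFinset.2 h0, hy, hyη⟩)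
        rw [h0, zpow_zero, ord_one_eq]
    · have h0 : D' y = 0 := by
        by_contra h0
        exact hyT (Finset.mem_filter.2 ⟨hfin.mem_toFinset.2 h0, hy, hyη⟩)
      rw [h0, zpow_zero, ord_one_eq]
  choose! v hv1 hv2 using fun x (hx : coheight x = 1) => exists_vertical hp hx
  refine ⟨fun x => if coheight x = 1 then D' (v x) - Scheme.ord g (v x) else 0, g, fun x hx => if_neg hx, ?_, hg,
    fun y hy => ?_⟩
  · refine ((hfin.union (finite_ord_ne_zero g)).image p).subset fun x hx => ?_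
    simp only [Set.mem_setOf_eq] at hx
    by_cases hx1 : coheight x = 1
    · rw [if_pos hx1] at hx
      refine ⟨v x, ?_, hv1 x hx1⟩
      by_contra hno
      simp only [Set.mem_union, Set.mem_setOf_eq, not_or, not_not] at hno
      exact hx (by rw [hno.1, hno.2, sub_zero])
    · rw [if_neg hx1] at hx
      exact absurd rfl hx
  · rcases coheight_map hp hy with hyη | hx
    · simp only [hyη, coheight_genericPoint, zero_ne_one, if_false, zero_add]
      exact (hgord y hy hyη).symm
    · simp only [if_pos hx]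
      rw [vertical_unique hp (hv2 _ hx) hy (by rwa [hv1 _ hx]) (hv1 _ hx)]
      ring

end Groth.Agent.WDivA16
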